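import Mathlib
import Cfsg.Agent.Lib.Characters.Inner
import Cfsg.Agent.Lib.Characters.Kernel
import Cfsg.Agent.Lib.Characters.Induction

/-!
# Dihedral `2`-subgroups: elements, automorphisms of subgroups, characters
-/

set_option linter.style.haveILetI false
set_option linter.unusedSectionVars false

namespace Cfsg.Agent.Blocks.Dihedral

open Cfsg.Agent.Characters
open scoped ComplexConjugate

universe u

variable {G : Type u} [Group G] [Finite G]

/-- The subgroup is dihedral of order `2 N` with rotations generated by `r`. -/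
structure IsDih (D : Subgroup G) (r : D) (N : ℕ) : Prop where
  ord : orderOf r = N
  pow : ∃ j, 2 ≤ j ∧ N = 2 ^ j
  card : Nat.card D = 2 * N
  sq : ∀ w : D, w ∉ Subgroup.zpowers r → w * w = 1
  inv : ∀ w : D, w ∉ Subgroup.zpowers r → w * r * w⁻¹ = r⁻¹

theorem exists_isDih {D : Subgroup G} {n : ℕ} (hn : 3 ≤ n)
    (hdih : Nonempty (D ≃* DihedralGroup (2 ^ (n - 1)))) :
    ∃ r : D, IsDih D r (2 ^ (n - 1)) := by
  obtain ⟨φ⟩ := hdih
  set N := 2 ^ (n - 1)
  haveI : NeZero N := ⟨pow_ne_zero _ two_ne_zero⟩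
  refine ⟨φ.symm (DihedralGroup.r 1), ?_, ⟨n - 1, by omega, rfl⟩, ?_, fun w hw => ?_, fun w hw => ?_⟩
  · rw [φ.symm.orderOf_eq, DihedralGroup.orderOf_r_one]
  · rw [Nat.card_congr φ.toEquiv, DihedralGroup.nat_card]
  all_goals
    have hsr : ∃ i, φ w = DihedralGroup.sr i := by
      cases h : φ w with
      | sr i => exact ⟨i, rfl⟩
      | r i =>
        refine absurd ?_ hw
        refine Subgroup.mem_zpowers_iff.2 ⟨(i.val : ℤ), φ.injective ?_⟩
        rw [zpow_natCast, map_pow, φ.apply_symm_apply, DihedralGroup.r_one_pow, h, ZMod.natCast_val,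
          ZMod.cast_id]
    obtain ⟨i, hi⟩ := hsr
  · exact φ.injective (by rw [map_mul, hi, DihedralGroup.sr_mul_self, map_one])
  · refine φ.injective ?_
    rw [map_mul, map_mul, map_inv, map_inv, φ.apply_symm_apply, hi, DihedralGroup.inv_sr,
      DihedralGroup.sr_mul_r, DihedralGroup.sr_mul_sr, DihedralGroup.inv_r]
    congr 1
    ring

/-- An automorphism moving `t` by a fixed element of two-power order and having odd order fixes `t`. -/
theorem eq_one_of_drift {x t u : G} (hx : Odd (orderOf x)) (ht : x * t * x⁻¹ = t * u)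
    (hu : x * u * x⁻¹ = u) {k : ℕ} (h2 : u ^ 2 ^ k = 1) : u = 1 := by
  have h : ∀ m : ℕ, x ^ m * t * (x ^ m)⁻¹ = t * u ^ m := by
    intro m
    induction m with
    | zero => simp
    | succ m ih =>
      have e : x ^ (m + 1) * t * (x ^ (m + 1))⁻¹ = x * (x ^ m * t * (x ^ m)⁻¹) * x⁻¹ := by
        rw [pow_succ']; group
      rw [e, ih, show x * (t * u ^ m) * x⁻¹ = x * t * x⁻¹ * (x * u * x⁻¹) ^ m by
        rw [conj_pow]; group, ht, hu, pow_succ', mul_assoc]
  have h1 : u ^ orderOf x = 1 := by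
    have := h (orderOf x)
    rw [pow_orderOf_eq_one, one_mul, inv_one, mul_one] at this
    exact mul_eq_left.1 this.symm
  rw [← orderOf_eq_one_iff]
  exact Nat.eq_one_of_dvd_coprimes
    (Nat.Coprime.pow_right k (Nat.coprime_two_right.2 hx))
    (orderOf_dvd_of_pow_eq_one h1) (orderOf_dvd_of_pow_eq_one h2)

namespace IsDih

variable {D : Subgroup G} {r : D} {N : ℕ} (h : IsDih D r N)
include h

theorem four_le : 4 ≤ N := by
  obtain ⟨j, hj, rfl⟩ := h.pow
  calc (4 : ℕ) = 2 ^ 2 := rfl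
    _ ≤ 2 ^ j := Nat.pow_le_pow_right two_pos hj

theorem two_dvd : 2 ∣ N := by
  obtain ⟨j, hj, rfl⟩ := h.pow
  exact dvd_pow_self 2 (by omega)

theorem card_R : Nat.card (Subgroup.zpowers r) = N := by rw [Nat.card_zpowers, h.ord]

theorem exists_out : ∃ w : D, w ∉ Subgroup.zpowers r := by
  by_contra hcon
  push Not at hcon
  have h1 : Subgroup.zpowers r = ⊤ := (Subgroup.eq_top_iff' _).2 hcon
  have h2 := h.card_R
  rw [h1, Subgroup.card_top, h.card] at h2
  have := h.four_le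
  omega

theorem inv_mem {w t : D} (hw : w ∉ Subgroup.zpowers r) (ht : t ∈ Subgroup.zpowers r) :
    w * t * w⁻¹ = t⁻¹ := by
  obtain ⟨k, rfl⟩ := Subgroup.mem_zpowers_iff.1 ht
  rw [← conj_zpow, h.inv w hw, inv_zpow]

theorem comm {t t' : D} (ht : t ∈ Subgroup.zpowers r) (ht' : t' ∈ Subgroup.zpowers r) :
    t * t' = t' * t := by
  obtain ⟨k, rfl⟩ := Subgroup.mem_zpowers_iff.1 ht
  obtain ⟨l, rfl⟩ := Subgroup.mem_zpowers_iff.1 ht'
  rw [← zpow_add, add_comm, zpow_add]

theorem conj_mem {t : D} (ht : t ∈ Subgroup.zpowers r) (w : D) :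
    w * t * w⁻¹ = t ∨ w * t * w⁻¹ = t⁻¹ := by
  by_cases hw : w ∈ Subgroup.zpowers r
  · exact Or.inl (by rw [h.comm hw ht, mul_inv_cancel_right])
  · exact Or.inr (h.inv_mem hw ht)

theorem mul_mem_R {w w' : D} (hw : w ∉ Subgroup.zpowers r) (hw' : w' ∉ Subgroup.zpowers r) :
    w * w' ∈ Subgroup.zpowers r := by
  by_contra hu
  have h1 := h.inv _ hu
  rw [show w * w' * r * (w * w')⁻¹ = w * (w' * r * w'⁻¹) * w⁻¹ by group, h.inv w' hw',
    show w * r⁻¹ * w⁻¹ = (w * r * w⁻¹)⁻¹ by group, h.inv w hw, inv_inv] at h1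
  have h2 : r ^ 2 = 1 := by rw [pow_two]; exact eq_inv_iff_mul_eq_one.1 h1
  have := Nat.le_of_dvd two_pos (h.ord ▸ orderOf_dvd_of_pow_eq_one h2)
  have := h.four_le
  omega

/-- The central involution. -/
theorem z_facts : (r ^ (N / 2) : D) ≠ 1 ∧ (r ^ (N / 2) : D) * r ^ (N / 2) = 1 := by
  have h2 := h.two_dvd
  have h4 := h.four_le
  refine ⟨pow_ne_one_of_lt_orderOf (by omega) (by rw [h.ord]; omega), ?_⟩
  rw [← pow_add, show N / 2 + N / 2 = N by omega, ← h.ord, pow_orderOf_eq_one]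

theorem z_central (w : D) : w * r ^ (N / 2) = r ^ (N / 2) * w := by
  have hz : r ^ (N / 2) ∈ Subgroup.zpowers r := Subgroup.npow_mem_zpowers _ _
  rcases h.conj_mem hz w with e | e
  · exact mul_inv_eq_iff_eq_mul.1 e
  · rw [inv_eq_of_mul_eq_one_left h.z_facts.2] at e
    exact mul_inv_eq_iff_eq_mul.1 e

theorem sq_eq_one {t : D} (ht : t ∈ Subgroup.zpowers r) (h2 : t * t = 1) :
    t = 1 ∨ t = r ^ (N / 2) := by
  obtain ⟨k, hk, rfl⟩ : ∃ k, k < N ∧ r ^ k = t := by
    obtain ⟨k, hk⟩ := mem_powers_iff_mem_zpowers.2 ht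
    exact ⟨k % N, Nat.mod_lt _ (by have := h.four_le; omega), by
      rw [← h.ord, pow_mod_orderOf]; exact hk⟩
  rw [← pow_add] at h2
  have hd := h.ord ▸ orderOf_dvd_of_pow_eq_one h2
  obtain ⟨c, hc⟩ := hd
  have hc2 : c < 2 := by
    by_contra hcc
    have := Nat.mul_le_mul (le_refl N) (show 2 ≤ c by omega)
    omega
  interval_cases c
  · exact Or.inl (by rw [show k = 0 by omega, pow_zero])
  · exact Or.inr (by rw [show k = N / 2 by omega])

theorem pow_two_pow {t : D} : ∃ k : ℕ, t ^ 2 ^ k = 1 := by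
  obtain ⟨j, -, hj⟩ := h.pow
  refine ⟨j + 1, ?_⟩
  rw [pow_succ', ← hj, ← h.card, pow_card_eq_one']

theorem z_mem_zpowers {t : D} (ht : t ∈ Subgroup.zpowers r) (h1 : t ≠ 1) :
    r ^ (N / 2) ∈ Subgroup.zpowers t := by
  obtain ⟨k, hk⟩ := h.pow_two_pow (t := t)
  induction k generalizing t with
  | zero => exact absurd (by simpa using hk) h1
  | succ k ih =>
    by_cases h2 : t * t = 1
    · rcases h.sq_eq_one ht h2 with e | e
      · exact absurd e h1
      · rw [← e]; exact Subgroup.mem_zpowers t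
    · have h3 := ih (mul_mem ht ht) h2 (by rw [← pow_two, ← pow_mul, ← pow_succ']; exact hk)
      exact Subgroup.zpowers_le.2 (mul_mem (Subgroup.mem_zpowers t) (Subgroup.mem_zpowers t)) h3

theorem mem_R_of_sq {w : D} (hw : w * w ≠ 1) : w ∈ Subgroup.zpowers r :=
  by_contra fun hn => hw (h.sq w hn)

theorem ne_inv {t : D} (ht : t ∈ Subgroup.zpowers r) (h1 : t ≠ 1) (hz : t ≠ r ^ (N / 2)) :
    t⁻¹ ≠ t := fun e => by
  rcases h.sq_eq_one ht (by conv_lhs => arg 1; rw [← e]
                            exact inv_mul_cancel t) with e' | e'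
  exacts [h1 e', hz e']

/-- An element of odd order normalising a subgroup of `D` and fixing the central involution
centralises it. -/
theorem centralizes_of_odd {x : G} (hx : Odd (orderOf x))
    (hz : x * ((r ^ (N / 2) : D) : G) * x⁻¹ = ((r ^ (N / 2) : D) : G))
    {S : Subgroup G} (hS : S ≤ D) (hN : ∀ q ∈ S, x * q * x⁻¹ ∈ S) :
    ∀ q ∈ S, x * q * x⁻¹ = q := by
  have hR : ∀ k : ℕ, ∀ t : D, t ∈ Subgroup.zpowers r → (t : G) ∈ S → t ^ 2 ^ k = 1 →
      x * (t : G) * x⁻¹ = (t : G) := by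
    intro k
    induction k with
    | zero =>
      intro t _ _ hk
      rw [pow_zero, pow_one] at hk
      simp [hk]
    | succ k ih =>
      intro t htR htS hk
      by_cases h2 : t * t = 1
      · rcases h.sq_eq_one htR h2 with e | e
        · simp [e]
        · rw [e]; exact hz
      have hsq := ih (t * t) (mul_mem htR htR) (mul_mem htS htS)
        (by rw [← pow_two, ← pow_mul, ← pow_succ']; exact hk)
      set t' : D := ⟨x * t * x⁻¹, hS (hN _ htS)⟩ with ht'
      have hsq' : t' * t' = t * t := Subtype.ext (by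
        simp only [ht', Subgroup.coe_mul] at hsq ⊢
        conv_rhs => rw [← hsq]
        group)
      have ht'R : t' ∈ Subgroup.zpowers r := h.mem_R_of_sq (by rw [hsq']; exact h2)
      set u := t⁻¹ * t' with hu
      have huR : u ∈ Subgroup.zpowers r := mul_mem (Subgroup.inv_mem _ htR) ht'R
      have hu2 : u * u = 1 := by
        rw [hu, show t⁻¹ * t' * (t⁻¹ * t') = t⁻¹ * (t' * t⁻¹) * t' by group,
          h.comm ht'R (Subgroup.inv_mem _ htR), show t⁻¹ * (t⁻¹ * t') * t' = t⁻¹ * t⁻¹ * (t' * t') by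
          group, hsq']
        group
      have hfix : x * (u : G) * x⁻¹ = (u : G) := by
        rcases h.sq_eq_one huR hu2 with e | e
        · simp [e]
        · rw [e]; exact hz
      have h1 : (u : G) = 1 := eq_one_of_drift hx (t := (t : G))
        (by simp [hu, ht']) hfix (k := 1) (by
          rw [pow_one, pow_two]; exact congrArg Subtype.val hu2)
      have : t' = t := by
        have h3 : u = 1 := Subtype.ext h1
        rwa [hu, inv_mul_eq_one, eq_comm] at h3
      exact congrArg Subtype.val this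
  have hR' : ∀ t : D, t ∈ Subgroup.zpowers r → (t : G) ∈ S → x * (t : G) * x⁻¹ = (t : G) :=
    fun t h1 h2 => (h.pow_two_pow (t := t)).elim fun k hk => hR k t h1 h2 hk
  intro q hq
  by_cases hqR : (⟨q, hS hq⟩ : D) ∈ Subgroup.zpowers r
  · exact hR' ⟨q, hS hq⟩ hqR hq
  set w : D := ⟨q, hS hq⟩ with hw
  set w' : D := ⟨x * q * x⁻¹, hS (hN q hq)⟩ with hw'
  have hw'R : w' ∉ Subgroup.zpowers r := by
    intro hin
    have h1 : x * (x * q * x⁻¹) * x⁻¹ = x * q * x⁻¹ := hR' w' hin (hN q hq)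
    refine hqR ?_
    have h2 : x * q * x⁻¹ = q := mul_left_cancel (mul_right_cancel h1)
    have : w' = w := Subtype.ext h2
    rwa [this] at hin
  have hwi : w⁻¹ ∉ Subgroup.zpowers r := fun hin => hqR (by simpa using Subgroup.inv_mem _ hin)
  have huR := h.mul_mem_R hwi hw'R
  have huS : ((w⁻¹ * w' : D) : G) ∈ S := by
    simp only [hw, hw', Subgroup.coe_mul, Subgroup.coe_inv]
    exact mul_mem (Subgroup.inv_mem _ hq) (hN q hq)
  obtain ⟨k, hk⟩ := h.pow_two_pow (t := w⁻¹ * w')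
  have h1 : ((w⁻¹ * w' : D) : G) = 1 := eq_one_of_drift hx (t := q)
    (by simp [hw, hw']) (hR' _ huR huS) (k := k) (by
      rw [← Subgroup.coe_pow, hk]; rfl)
  simp only [hw, hw', Subgroup.coe_mul, Subgroup.coe_inv] at h1
  exact (inv_mul_eq_one.1 h1).symm

/-- An irreducible character of degree one is one on the squares of rotations. -/
theorem linear_sq {ζ : Cfsg.IrrCharacter D} (h1 : (ζ : D → ℂ) 1 = 1) {t : D}
    (ht : t ∈ Subgroup.zpowers r) : (ζ : D → ℂ) (t * t) = 1 := by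
  obtain ⟨w, hw⟩ := h.exists_out
  have hm := char_mul_of_degree_one (irr_isCharacter ζ) h1
  have h2 : (ζ : D → ℂ) (w * t * w⁻¹) = (ζ : D → ℂ) t := irr_isClassFunction ζ t w
  rw [h.inv_mem hw ht] at h2
  rw [hm, ← h1, ← mul_inv_cancel t, hm, h2]

theorem linear_z {ζ : Cfsg.IrrCharacter D} (h1 : (ζ : D → ℂ) 1 = 1) :
    (ζ : D → ℂ) (r ^ (N / 2)) = 1 := by
  obtain ⟨j, hj, hN⟩ := h.pow
  have e : r ^ (N / 2) = r ^ (N / 4) * r ^ (N / 4) := by
    rw [← pow_add]
    congr 1
    obtain ⟨i, rfl⟩ : ∃ i, j = i + 2 := ⟨j - 2, by omega⟩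
    rw [hN, pow_add]
    omega
  rw [e]
  exact h.linear_sq h1 (Subgroup.npow_mem_zpowers _ _)

/-- The other irreducible characters vanish outside the rotations. -/
theorem vanish {ζ : Cfsg.IrrCharacter D} (h1 : (ζ : D → ℂ) 1 ≠ 1) {w : D}
    (hw : w ∉ Subgroup.zpowers r) : (ζ : D → ℂ) w = 0 := by
  classical
  haveI := Fintype.ofFinite D
  haveI := Fintype.ofFinite (Subgroup.zpowers r)
  haveI := Fintype.ofFinite (Cfsg.IrrCharacter (Subgroup.zpowers r))
  set R := Subgroup.zpowers r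
  set f : R → ℂ := fun t => (ζ : D → ℂ) t with hf
  have hfc : Cfsg.IsCharacter R f := isCharacter_restrict R (irr_isCharacter ζ)
  have hn := fun μ : Cfsg.IrrCharacter R => classInner_char_nat hfc (irr_isCharacter μ)
  choose m hm using hn
  have hcR : ∀ a b : R, a * b = b * a := fun a b => Subtype.ext (h.comm a.2 b.2)
  have hμ1 : ∀ μ : Cfsg.IrrCharacter R, (μ : R → ℂ) 1 = 1 := fun μ =>
    irr_degree_one_of_comm hcR μ.2
  have hfcl : Cfsg.IsClassFunction R f := fun a b => by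
    rw [hcR b a, mul_inv_cancel_right]
  have hdeg : (ζ : D → ℂ) 1 = ((∑ μ, m μ : ℕ) : ℂ) := by
    have := congrFun (classFun_eq_sum hfcl) 1
    simp only [Finset.sum_apply, Pi.smul_apply, hm, hμ1, smul_eq_mul, mul_one] at this
    rw [Nat.cast_sum]
    exact this
  have hnorm : ∑ t : R, f t * conj (f t) = ((N * ∑ μ, m μ ^ 2 : ℕ) : ℂ) := by
    have h2 := classInner_eq_sum f hfcl
    rw [classInner_def, inv_mul_eq_iff_eq_mul₀ natCard_ne_zero] at h2
    rw [h2, h.card_R]
    push_cast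
    congr 1
    refine Finset.sum_congr rfl fun μ _ => ?_
    rw [hm, classInner_conj_symm f, hm, Complex.conj_natCast, pow_two]
  have hall : ∑ v : D, (ζ : D → ℂ) v * conj ((ζ : D → ℂ) v) = ((2 * N : ℕ) : ℂ) := by
    have h2 := classInner_irr ζ ζ
    rw [if_pos rfl, classInner_def, inv_mul_eq_iff_eq_mul₀ natCard_ne_zero, mul_one, h.card] at h2
    exact h2
  have hsplit : ∑ v : D, Complex.normSq ((ζ : D → ℂ) v) = (2 * N : ℕ) ∧
      ∑ v ∈ Finset.univ.filter (· ∈ R), Complex.normSq ((ζ : D → ℂ) v) =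
        ((N * ∑ μ, m μ ^ 2 : ℕ) : ℝ) := by
    refine ⟨?_, ?_⟩ <;> apply Complex.ofReal_injective <;> push_cast
    · simp only [← Complex.mul_conj]
      rw [hall]; push_cast; rfl
    · simp only [← Complex.mul_conj]
      rw [Finset.sum_subtype (p := fun v => v ∈ R) _ (fun v => by simp)
        (fun v => (ζ : D → ℂ) v * conj ((ζ : D → ℂ) v))]
      push_cast at hnorm
      exact hnorm
  have hle : ∑ v ∈ Finset.univ.filter (· ∈ R), Complex.normSq ((ζ : D → ℂ) v) ≤
      ∑ v : D, Complex.normSq ((ζ : D → ℂ) v) :=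
    Finset.sum_le_sum_of_subset_of_nonneg (Finset.filter_subset _ _)
      fun v _ _ => Complex.normSq_nonneg _
  have hNpos : 0 < N := by have := h.four_le; omega
  have hm2 : ∑ μ, m μ ≤ ∑ μ, m μ ^ 2 := Finset.sum_le_sum fun μ _ => by nlinarith
  have hge : 2 ≤ ∑ μ, m μ := by
    have h0 : ∑ μ, m μ ≠ 0 := fun e => irr_one_ne_zero ζ.2 (by rw [hdeg, e, Nat.cast_zero])
    have h11 : ∑ μ, m μ ≠ 1 := fun e => h1 (by rw [hdeg, e, Nat.cast_one])
    omega
  have hup : ∑ μ, m μ ^ 2 ≤ 2 := by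
    rw [hsplit.1, hsplit.2] at hle
    have h2 : N * ∑ μ, m μ ^ 2 ≤ 2 * N := by exact_mod_cast hle
    rw [mul_comm 2 N] at h2
    exact Nat.le_of_mul_le_mul_left h2 hNpos
  have heq : ∑ μ, m μ ^ 2 = 2 := by omega
  have hzero : ∑ v ∈ Finset.univ.filter (· ∉ R), Complex.normSq ((ζ : D → ℂ) v) = 0 := by
    have := Finset.sum_filter_add_sum_filter_not (Finset.univ : Finset D) (· ∈ R)
      fun v => Complex.normSq ((ζ : D → ℂ) v)
    rw [hsplit.1, hsplit.2, heq, mul_comm N 2] at this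
    linarith
  exact Complex.normSq_eq_zero.1
    ((Finset.sum_eq_zero_iff_of_nonneg fun v _ => Complex.normSq_nonneg _).1 hzero w
      (Finset.mem_filter.2 ⟨Finset.mem_univ _, hw⟩))

end IsDih

end Cfsg.Agent.Blocks.Dihedral
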