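import Mathlib
import Cfsg.Agent.Lib.Blocks.Dihedral.Group
import Cfsg.Agent.Lib.Blocks.CentralStep.Factor
import Cfsg.Agent.Lib.Blocks.CentralStep.Subsections

/-!
# The columns at the rotations of a block with dihedral defect group
-/

set_option linter.style.haveILetI false
set_option linter.unusedSectionVars false

namespace Cfsg.Agent.Blocks.Dihedral

open Cfsg.Agent.Blocks Cfsg.Agent.Characters Cfsg.Agent.Blocks.Star
open Cfsg.Agent.Blocks.CentralStep
open Cfsg.Agent.BlockCharsA.BrauerPairs Cfsg.Agent.BlockCharsA.PairConj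
open MonoidAlgebra
open scoped ComplexConjugate

universe u

variable {G : Type u} [Group G] [Finite G] {M : Ideal Cfsg.AlgInt}
  {B : Set (Cfsg.IrrCharacter G)} {P : Subgroup G}
  {e : Set (Cfsg.IrrCharacter (Subgroup.centralizer (P : Set G)))} {r : P} {N : ℕ}

/-- The central involution. -/
abbrev cz (r : P) (N : ℕ) : P := r ^ (N / 2)

theorem mem_centralizer_cz (h : IsDih P r N) :
    ((cz r N : P) : G) ∈ Subgroup.centralizer (P : Set G) :=
  Subgroup.mem_centralizer_iff.2 fun x hx => congrArg Subtype.val (h.z_central ⟨x, hx⟩)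

theorem conj_cz (h : IsDih P r N) {x : G} (hx : x ∈ CU ((cz r N : P) : G)) :
    x * ((cz r N : P) : G) * x⁻¹ = ((cz r N : P) : G) := by
  rw [← (commute_of_mem_CU hx).eq, mul_inv_cancel_right]

/-- A rotation and the centraliser of the central involution. -/
theorem good_rot (h : IsDih P r N) {v : P} (hv : v ∈ Subgroup.zpowers r) (h1 : v ≠ 1) :
    Good (cz r N) v := by
  refine ⟨fun x hx => mem_CU_of_commute ?_, fun x hx => ?_⟩
  · obtain ⟨k, hk⟩ := Subgroup.mem_zpowers_iff.1 (h.z_mem_zpowers hv h1)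
    rw [show ((cz r N : P) : G) = (v : G) ^ k by rw [cz, ← hk]; simp]
    exact (commute_of_mem_CU hx).zpow_left k
  · have key : ∀ w : P, ∀ y : G, y ∈ Subgroup.zpowers (v : G) →
        (w : G) * y * (w : G)⁻¹ ∈ Subgroup.zpowers (v : G) := by
      rintro w y ⟨k, rfl⟩
      rw [← conj_zpow]
      refine Subgroup.zpow_mem _ ?_ k
      rcases h.conj_mem hv w with e | e
      all_goals
        have e' := congrArg (fun u : P => (u : G)) e
        simp only [Subgroup.coe_mul, Subgroup.coe_inv] at e'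
        rw [e']
      · exact Subgroup.mem_zpowers _
      · exact Subgroup.inv_mem _ (Subgroup.mem_zpowers _)
    rw [Subgroup.mem_normalizer_iff]
    refine fun y => ⟨key ⟨x, hx⟩ y, fun hy => ?_⟩
    have h2 := key (⟨x, hx⟩ : P)⁻¹ _ hy
    simpa [mul_assoc] using h2

/-- Fusion inside the centraliser keeps rotations good. -/
theorem good_closed (h : IsDih P r N) {v : P} (hv : v ∈ Subgroup.zpowers r) (h1 : v ≠ 1)
    (w : P) (y : G) (hy : y ∈ CU ((cz r N : P) : G))
    (hw : (w : G) = y * (v : G) * y⁻¹) : Good (cz r N) w := by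
  by_cases h2 : v * v = 1
  · rcases h.sq_eq_one hv h2 with e | e
    · exact absurd e h1
    · have : w = cz r N := Subtype.ext (by rw [hw, e]; exact conj_cz h hy)
      rw [this]
      exact good_self (mem_centralizer_cz h)
  · have hw2 : w * w ≠ 1 := fun e' => h2 (Subtype.ext (by
      have e'' : y * (v : G) * y⁻¹ * (y * (v : G) * y⁻¹) = 1 := by
        rw [← hw]; exact congrArg Subtype.val e'
      rw [show y * (v : G) * y⁻¹ * (y * (v : G) * y⁻¹) = y * ((v : G) * v) * y⁻¹ by group] at e''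
      simpa using e''))
    exact good_rot h (h.mem_R_of_sq hw2) fun e' => hw2 (by rw [e', mul_one])

open scoped Classical in
/-- The number of rotations conjugate to `v`. -/
noncomputable def kRot (v : P) : ℕ := if v⁻¹ = v then 1 else 2

theorem kRot_ne_zero (v : P) : (kRot v : ℂ) ≠ 0 := by
  unfold kRot
  split_ifs <;> norm_num

variable (hM : Cfsg.IsPModular 2 M) (hmax : Cfsg.IsMaximalBrauerPair 2 M B P e) (h : IsDih P r N)
include hM hmax h

/-- The block at the central involution is nilpotent. -/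
theorem isNilpotent_central :
    Cfsg.IsNilpotentBlock 2 M (gAt 2 M e ((cz r N : P) : G)) := by
  haveI := Fintype.ofFinite G
  haveI := Fintype.ofFinite (CU ((cz r N : P) : G))
  have hz := mem_centralizer_cz h
  obtain ⟨a, ha, -⟩ := exists_maximal_central hM hmax hz
  refine ⟨(gAt_spec hM hmax (cz r N)).2.1, fun Q f hQf x hxN _ hreg => ?_⟩
  obtain ⟨y, hy⟩ := exists_conj_le hM ha hQf
  have hle : cj Q y ≤ top' P ((cz r N : P) : G) := (subpairLE_facts hM hy).1
  set x' := y * x * y⁻¹ with hx'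
  have hodd : Odd (orderOf (x' : G)) := by
    rw [Subgroup.orderOf_coe, hx', show y * x * y⁻¹ = MulAut.conj y x from rfl, MulEquiv.orderOf_eq,
      ← Nat.not_even_iff_odd, even_iff_two_dvd]
    exact hreg
  have hmaps : ∀ q ∈ (cj Q y).map (CU ((cz r N : P) : G)).subtype,
      (x' : G) * q * (x' : G)⁻¹ ∈ (cj Q y).map (CU ((cz r N : P) : G)).subtype := by
    rintro _ ⟨q, hq, rfl⟩
    obtain ⟨q₀, hq₀, rfl⟩ := hq
    refine ⟨x' * (y * q₀ * y⁻¹) * x'⁻¹, ?_, rfl⟩
    rw [hx', show y * x * y⁻¹ * (y * q₀ * y⁻¹) * (y * x * y⁻¹)⁻¹ = y * (x * q₀ * x⁻¹) * y⁻¹ by group]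
    exact conj_mem_cj.2 ((Subgroup.mem_normalizer_iff.1 hxN q₀).1 hq₀)
  have hS : (cj Q y).map (CU ((cz r N : P) : G)).subtype ≤ P := by
    rintro _ ⟨q, hq, rfl⟩
    exact hle hq
  have key := h.centralizes_of_odd hodd (conj_cz h x'.2) hS hmaps
  refine Subgroup.mem_centralizer_iff.2 fun q hq => ?_
  have h1 : x' * (y * q * y⁻¹) * x'⁻¹ = y * q * y⁻¹ :=
    Subtype.ext (key _ ⟨_, conj_mem_cj.2 hq, rfl⟩)
  rw [hx'] at h1
  have h2 : x * q * x⁻¹ = q := by
    have := congrArg (fun t => y⁻¹ * t * y) h1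
    simpa [mul_assoc] using this
  exact (mul_inv_eq_iff_eq_mul.1 h2).symm

variable (L : Loc 2 M e (cz r N))

/-- Fusion of rotations is inversion. -/
theorem fused_rot [Fintype G] (L : Loc 2 M e (cz r N)) {v w : P} (hv : v ∈ Subgroup.zpowers r)
    (h1 : v ≠ 1) (hw : w ∈ Subgroup.zpowers r) (hf : Fused 2 M e v w) : w = v ∨ w = v⁻¹ := by
  classical
  obtain ⟨x, hx, hε⟩ := hf
  have hw1 : w ≠ 1 := Fused.ne_one ⟨x, hx, hε⟩ h1
  have hxC : x ∈ CU ((cz r N : P) : G) := by
    obtain ⟨k, hk⟩ := Subgroup.mem_zpowers_iff.1 (h.z_mem_zpowers hv h1)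
    have e1 : x * ((cz r N : P) : G) * x⁻¹ = ((w ^ k : P) : G) := by
      rw [cz, ← hk, Subgroup.coe_zpow, Subgroup.coe_zpow, ← conj_zpow, hx]
    have hk2 : (w ^ k) * (w ^ k) = 1 := Subtype.ext (by
      rw [Subgroup.coe_mul, ← e1, show x * ((cz r N : P) : G) * x⁻¹ * (x * ((cz r N : P) : G) * x⁻¹) =
        x * (((cz r N : P) : G) * (cz r N : P)) * x⁻¹ by group, ← Subgroup.coe_mul, h.z_facts.2]
      simp)
    rcases h.sq_eq_one (Subgroup.zpow_mem _ hw k) hk2 with e2 | e2
    · rw [e2] at e1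
      exact absurd (Subtype.ext (by simpa using e1) : cz r N = 1) h.z_facts.1
    · rw [e2] at e1
      exact mem_CU_of_commute (mul_inv_eq_iff_eq_mul.1 e1).symm
  set v' := L.up v
  set w' := L.up w
  set η : top' P ((cz r N : P) : G) → ℂ := fun t => if t = v' ∨ t = v'⁻¹ then 1 else 0 with hη
  have hcl : Cfsg.IsClassFunction (top' P ((cz r N : P) : G)) η := fun t c => by
    have hc : c * v' * c⁻¹ = v' ∨ c * v' * c⁻¹ = v'⁻¹ := by
      rcases h.conj_mem hv (⟨((c : CU ((cz r N : P) : G)) : G), c.2⟩ : P) with e1 | e1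
      · have e2 := congrArg (fun u : P => (u : G)) e1
        exact Or.inl (Subtype.ext (Subtype.ext e2))
      · have e2 := congrArg (fun u : P => (u : G)) e1
        exact Or.inr (Subtype.ext (Subtype.ext e2))
    have hiff : (c * t * c⁻¹ = v' ∨ c * t * c⁻¹ = v'⁻¹) ↔ (t = v' ∨ t = v'⁻¹) := by
      rcases hc with e1 | e1
      · have e2 : c * v'⁻¹ * c⁻¹ = v'⁻¹ := by rw [← conj_inv, e1]
        conv_lhs => rw [← e2]; arg 1; rw [← e1]
        simp only [mul_left_inj, mul_right_inj]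
      · have e2 : c * v'⁻¹ * c⁻¹ = v' := by rw [← conj_inv, e1, inv_inv]
        conv_lhs => rw [← e1]; arg 1; rw [← e2]
        simp only [mul_left_inj, mul_right_inj]
        exact or_comm
    simp only [hη, hiff]
  have hst : Stable 2 M L.a η := stable_of_nilpotent hM L.nil L.max hcl
  have hgv := good_rot h hv h1
  have hgw := good_rot h hw hw1
  have heq : cjE (⟨x, hxC⟩ : CU ((cz r N : P) : G)) (eps 2 M L.a v') = eps 2 M L.a w' := by
    rw [← L.restr_eps hM hmax hgv, ← L.restr_eps hM hmax hgw, ← hε]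
    refine el_ext fun t => ?_
    rw [coeff_cjE, coeff_restrEl, coeff_restrEl, coeff_cjE]
    simp
  have := hst v' w' ⟨x, hxC⟩ (Subtype.ext hx) heq
  simp only [hη, if_pos, true_or] at this
  have h3 : w' = v' ∨ w' = v'⁻¹ := by
    by_contra hn
    rw [if_neg hn] at this
    exact one_ne_zero this
  rcases h3 with e1 | e1
  · exact Or.inl (Subtype.ext (congrArg
      (fun t : top' P ((cz r N : P) : G) => ((t : CU ((cz r N : P) : G)) : G)) e1))
  · exact Or.inr (Subtype.ext (congrArg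
      (fun t : top' P ((cz r N : P) : G) => ((t : CU ((cz r N : P) : G)) : G)) e1))

/-- The carriers of a rotation inside the centraliser. -/
theorem nbIn_rot [Fintype G] (L : Loc 2 M e (cz r N)) {v : P} (hv : v ∈ Subgroup.zpowers r)
    (h1 : v ≠ 1) :
    nbIn 2 M e (cz r N) v = kRot v * Nat.card (CU (v : G)) := by
  rw [kRot]
  by_cases hinv : v⁻¹ = v
  · rw [if_pos hinv, one_mul]
    obtain e1 | e1 := h.sq_eq_one hv (by nth_rw 1 [← hinv]; exact inv_mul_cancel v)
    · exact absurd e1 h1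
    · rw [show v = cz r N from e1]
      exact nbIn_self hM hmax
  rw [if_neg hinv]
  obtain ⟨w₀, hw₀⟩ := h.exists_out
  have hw₀v : (w₀ : G) * (v : G) * (w₀ : G)⁻¹ = ((v⁻¹ : P) : G) :=
    congrArg Subtype.val (h.inv_mem hw₀ hv)
  have hw₀C : (w₀ : G) ∈ CU ((cz r N : P) : G) := top_le (cz r N) (mem_centralizer_cz h) w₀.2
  have hvC : CU (v : G) ≤ CU ((cz r N : P) : G) := (good_rot h hv h1).1
  rw [show 2 * Nat.card (CU (v : G)) = Nat.card (Bool × CU (v : G)) by
    rw [Nat.card_prod, Nat.card_eq_fintype_card (α := Bool), Fintype.card_bool]]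
  have hfix : ∀ c ∈ CU (v : G), c * (v : G) * c⁻¹ = (v : G) := fun c hc => by
    rw [← (commute_of_mem_CU hc).eq, mul_inv_cancel_right]
  let f : Bool × CU (v : G) → {y : G // y ∈ CU ((cz r N : P) : G) ∧
      ∃ w : P, (w : G) = y * (v : G) * y⁻¹ ∧ cjE y (eps 2 M e v) = eps 2 M e w} := fun a =>
    ⟨(if a.1 then (w₀ : G) else 1) * (a.2 : G), by
      obtain ⟨b, c, hc⟩ := a
      have hcε : cjE c (eps 2 M e v) = eps 2 M e v :=
        cjE_eq_self (invBy_BI (eps_mem_BI hM hmax v)) hc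
      cases b
      · simp only [Bool.false_eq_true, if_false, one_mul]
        exact ⟨hvC hc, v, (hfix c hc).symm, hcε⟩
      · simp only [if_true]
        refine ⟨Subgroup.mul_mem _ hw₀C (hvC hc), v⁻¹, ?_, ?_⟩
        · rw [← hw₀v, show (w₀ : G) * c * (v : G) * ((w₀ : G) * c)⁻¹ =
            (w₀ : G) * (c * (v : G) * c⁻¹) * (w₀ : G)⁻¹ by group, hfix c hc]
        · rw [← cjE_cjE, hcε, eps_conj_top hM hmax, h.inv_mem hw₀ hv]⟩
  refine (Nat.card_congr (Equiv.ofBijective f ⟨?_, ?_⟩)).symm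
  · rintro ⟨b, c⟩ ⟨b', c'⟩ heq
    have h2 := congrArg Subtype.val heq
    simp only [f] at h2
    have key : ∀ (b : Bool) (c : CU (v : G)),
        ((if b then (w₀ : G) else 1) * (c : G)) * (v : G) * ((if b then (w₀ : G) else 1) * (c : G))⁻¹ =
          if b then ((v⁻¹ : P) : G) else (v : G) := fun b c => by
      cases b
      · simp only [Bool.false_eq_true, if_false, one_mul]; exact hfix c c.2
      · simp only [if_true]
        rw [← hw₀v, show (w₀ : G) * c * (v : G) * ((w₀ : G) * c)⁻¹ =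
          (w₀ : G) * ((c : G) * (v : G) * (c : G)⁻¹) * (w₀ : G)⁻¹ by group, hfix c c.2]
    have h3 := (key b c).symm.trans ((congrArg (fun t => t * (v : G) * t⁻¹) h2).trans (key b' c'))
    have hbb : b = b' := by
      cases b <;> cases b' <;> simp at h3 ⊢
      · exact hinv (Subtype.ext h3.symm)
      · exact hinv (Subtype.ext h3)
    subst hbb
    exact Prod.ext rfl (Subtype.ext (mul_left_cancel h2))
  · rintro ⟨y, hy, w, hw, hwe⟩
    have hwR : w ∈ Subgroup.zpowers r := by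
      refine h.mem_R_of_sq fun e' => hinv (inv_eq_of_mul_eq_one_left (Subtype.ext ?_))
      have e'' : y * (v : G) * y⁻¹ * (y * (v : G) * y⁻¹) = 1 := by
        rw [← hw]; exact congrArg Subtype.val e'
      rw [show y * (v : G) * y⁻¹ * (y * (v : G) * y⁻¹) = y * ((v : G) * v) * y⁻¹ by group] at e''
      simpa using e''
    rcases fused_rot hM hmax h L hv h1 hwR ⟨y, hw, hwe⟩ with rfl | rfl
    · refine ⟨(false, ⟨y, mem_CU_of_commute (mul_inv_eq_iff_eq_mul.1 hw.symm).symm⟩), Subtype.ext ?_⟩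
      simp [f]
    · have hc : (w₀ : G)⁻¹ * y ∈ CU (v : G) := by
        refine mem_CU_of_commute ?_
        show (v : G) * ((w₀ : G)⁻¹ * y) = (w₀ : G)⁻¹ * y * (v : G)
        calc (v : G) * ((w₀ : G)⁻¹ * y)
            = (w₀ : G)⁻¹ * ((w₀ : G) * (v : G) * (w₀ : G)⁻¹) * y := by group
          _ = (w₀ : G)⁻¹ * (y * (v : G) * y⁻¹) * y := by rw [hw₀v, hw]
          _ = _ := by group
      refine ⟨(true, ⟨_, hc⟩), Subtype.ext ?_⟩
      simp [f]

section Col

variable [Fintype G] [Fintype (Cfsg.IrrCharacter G)] [Fintype (CU ((cz r N : P) : G))]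
  [Fintype (Cfsg.IrrCharacter (top' P ((cz r N : P) : G)))]

/-- The column of a class function at the rotations. -/
noncomputable def col (L : Loc 2 M e (cz r N)) (f : G → ℂ) (v : P) : ℂ :=
  L.coord (fun c : CU ((cz r N : P) : G) => f c) v

omit hM hmax h in
theorem isGen_col (χ : Cfsg.IrrCharacter G) :
    Cfsg.IsGeneralizedCharacter P (col L (χ : G → ℂ)) :=
  L.isGen_coord (isGen_of_isCharacter (isCharacter_restrict _ (irr_isCharacter χ)))

theorem col_inv {v : P} (hv : v ∈ Subgroup.zpowers r) (χ : Cfsg.IrrCharacter G) :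
    col L (χ : G → ℂ) v⁻¹ = col L (χ : G → ℂ) v := by
  obtain ⟨a, b, ha, hb, hab⟩ := isGen_col L χ
  obtain ⟨w, hw⟩ := h.exists_out
  rw [hab, Pi.sub_apply, Pi.sub_apply, ← h.inv_mem hw hv, char_isClassFunction ha v w,
    char_isClassFunction hb v w]

theorem col_real {v : P} (hv : v ∈ Subgroup.zpowers r) (χ : Cfsg.IrrCharacter G) :
    conj (col L (χ : G → ℂ) v) = col L (χ : G → ℂ) v := by
  obtain ⟨a, b, ha, hb, hab⟩ := isGen_col L χ
  refine Eq.trans ?_ (col_inv hM hmax h L hv χ)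
  rw [hab, Pi.sub_apply, Pi.sub_apply, map_sub, char_inv ha, char_inv hb]

/-- The weights of the columns. -/
theorem wgt_rot {v : P} (hv : v ∈ Subgroup.zpowers r) (h1 : v ≠ 1) (χ ψ : Cfsg.IrrCharacter G) :
    wgt 2 M e (χ : G → ℂ) (ψ : G → ℂ) v =
      col L (χ : G → ℂ) v * col L (ψ : G → ℂ) v * (kRot v : ℂ) / (2 * (N : ℂ)) := by
  have hp := L.pairing_eq hM hmax (irr_isClassFunction χ) (irr_isClassFunction ψ) (good_rot h hv h1)
    (good_closed h hv h1)
  rw [nbIn_rot hM hmax h L hv h1, h.card] at hp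
  have hψr := col_real hM hmax h L hv ψ
  rw [col] at hψr
  rw [hψr] at hp
  haveI := Fintype.ofFinite (CU (v : G))
  have hC : (Nat.card (CU (v : G)) : ℂ) ≠ 0 := natCard_ne_zero
  have hN : (N : ℂ) ≠ 0 := Nat.cast_ne_zero.2 (by have := h.four_le; omega)
  rw [wgt, col, col, div_eq_div_iff hC (mul_ne_zero two_ne_zero hN)]
  push_cast at hp
  linear_combination hp

/-- Some member of the block has non-zero entries at all rotations. -/
theorem exists_col_ne_zero :
    ∃ χ₁ : Cfsg.IrrCharacter G, χ₁ ∈ B ∧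
      ∀ v ∈ Subgroup.zpowers r, v ≠ 1 → col L (χ₁ : G → ℂ) v ≠ 0 := by
  obtain ⟨χ₁, hχ₁, h0⟩ := exists_height_zero hM hmax.1.2.1
  refine ⟨χ₁, hχ₁, fun v hv h1 he => wgt_self_ne_zero hM hmax hχ₁ h0 v ?_⟩
  rw [wgt_rot hM hmax h L hv h1, he]
  simp

open scoped Classical in
/-- The orthogonality of the columns. -/
theorem col_orth {v w : P} (hv : v ∈ Subgroup.zpowers r) (hv1 : v ≠ 1)
    (hw : w ∈ Subgroup.zpowers r) (hw1 : w ≠ 1) :
    ∑ χ ∈ Finset.univ.filter (fun χ => χ ∈ B), col L (χ : G → ℂ) v * col L (χ : G → ℂ) w =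
      (N : ℂ) * ((if w = v then 1 else 0) + (if w = v⁻¹ then 1 else 0)) := by
  obtain ⟨χ₁, hχ₁, hne⟩ := exists_col_ne_zero hM hmax h L
  have hN : (N : ℂ) ≠ 0 := Nat.cast_ne_zero.2 (by have := h.four_le; omega)
  set k : P → ℂ := fun t => (kRot t : ℂ) with hk
  have hk0 : ∀ t, k t ≠ 0 := fun t => kRot_ne_zero t
  have hor := column_orth hM hmax (irr_isClassFunction χ₁) (irr_isClassFunction χ₁) v w
  have hL' : ∀ χ : Cfsg.IrrCharacter G,
      wgt 2 M e (χ₁ : G → ℂ) (χ : G → ℂ) v * conj (wgt 2 M e (χ₁ : G → ℂ) (χ : G → ℂ) w) =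
        (col L (χ₁ : G → ℂ) v * k v / (2 * (N : ℂ)) *
          (col L (χ₁ : G → ℂ) w * k w / (2 * (N : ℂ)))) *
          (col L (χ : G → ℂ) v * col L (χ : G → ℂ) w) := fun χ => by
    rw [wgt_rot hM hmax h L hv hv1, wgt_rot hM hmax h L hw hw1, map_div₀, map_mul, map_mul,
      col_real hM hmax h L hw, col_real hM hmax h L hw, map_mul]
    simp only [hk, map_ofNat, Complex.conj_natCast]
    ring
  rw [Finset.sum_congr rfl fun χ _ => hL' χ, ← Finset.mul_sum] at hor
  have hc : col L (χ₁ : G → ℂ) v * k v / (2 * (N : ℂ)) *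
      (col L (χ₁ : G → ℂ) w * k w / (2 * (N : ℂ))) ≠ 0 :=
    mul_ne_zero (div_ne_zero (mul_ne_zero (hne v hv hv1) (hk0 v)) (mul_ne_zero two_ne_zero hN))
      (div_ne_zero (mul_ne_zero (hne w hw hw1) (hk0 w)) (mul_ne_zero two_ne_zero hN))
  refine mul_left_cancel₀ hc (hor.trans ?_)
  by_cases hf : Fused 2 M e v w
  · have hcases := fused_rot hM hmax h L hv hv1 hw hf
    have hcol : col L (χ₁ : G → ℂ) w = col L (χ₁ : G → ℂ) v := by
      rcases hcases with rfl | rfl
      · rfl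
      · exact col_inv hM hmax h L hv χ₁
    have hkw : k w = k v := by
      rcases hcases with rfl | rfl
      · rfl
      · simp only [hk, kRot, inv_inv, eq_comm]
    have hsum : ((if w = v then (1 : ℂ) else 0) + (if w = v⁻¹ then 1 else 0)) * k v = 2 := by
      simp only [hk, kRot]
      by_cases hi : v⁻¹ = v
      · rcases hcases with rfl | rfl <;> simp [hi] <;> norm_num
      · rcases hcases with rfl | rfl
        · simp [hi, Ne.symm hi]
        · simp [hi]
    rw [if_pos hf, wgt_rot hM hmax h L hv hv1, hcol, hkw]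
    show col L (χ₁ : G → ℂ) v * col L (χ₁ : G → ℂ) v * k v / (2 * (N : ℂ)) = _
    generalize hs : ((if w = v then (1 : ℂ) else 0) + (if w = v⁻¹ then 1 else 0)) = S at hsum ⊢
    field_simp
    linear_combination (-(col L (χ₁ : G → ℂ) v * col L (χ₁ : G → ℂ) v * k v * (2 : ℂ) ^ 0)) * hsum
  · rw [if_neg hf, if_neg fun e' => hf (by rw [e']; exact fused_refl v), if_neg fun e' => hf ?_,
      add_zero, mul_zero, mul_zero]
    obtain ⟨w₀, hw₀⟩ := h.exists_out
    exact ⟨(w₀ : G), by rw [e', ← h.inv_mem hw₀ hv]; rfl, by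
      rw [eps_conj_top hM hmax, h.inv_mem hw₀ hv, e']⟩

open scoped Classical in
/-- The columns are orthogonal to the values at regular elements. -/
theorem col_regular {v : P} (hv : v ∈ Subgroup.zpowers r) (h1 : v ≠ 1) {s : G}
    (hs : ¬ 2 ∣ orderOf s) :
    ∑ χ ∈ Finset.univ.filter (fun χ => χ ∈ B), col L (χ : G → ℂ) v * (χ : G → ℂ) s = 0 := by
  obtain ⟨χ₁, hχ₁, hne⟩ := exists_col_ne_zero hM hmax h L
  have hN : (N : ℂ) ≠ 0 := Nat.cast_ne_zero.2 (by have := h.four_le; omega)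
  have hk0 := kRot_ne_zero v
  have hr := column_regular hM hmax hχ₁ h1 hs
  rw [Finset.sum_congr rfl (g := fun χ : Cfsg.IrrCharacter G =>
    (col L (χ₁ : G → ℂ) v * (kRot v : ℂ) / (2 * (N : ℂ))) *
      (col L (χ : G → ℂ) v * (χ : G → ℂ) s)) fun χ _ => by
    rw [wgt_rot hM hmax h L hv h1]; ring, ← Finset.mul_sum] at hr
  exact (mul_eq_zero.1 hr).resolve_left
    (div_ne_zero (mul_ne_zero (hne v hv h1) hk0) (mul_ne_zero two_ne_zero hN))

/-- Every member of the block has a non-zero entry at the central involution. -/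
theorem col_cz_ne_zero {χ : Cfsg.IrrCharacter G} (hχ : χ ∈ B) :
    col L (χ : G → ℂ) (cz r N) ≠ 0 := by
  obtain ⟨s, hs, hne⟩ := exists_th_ne_zero_center hM hmax (mem_centralizer_cz h) hχ
  have hsC : s ∈ CU ((cz r N : P) : G) := mem_CU_of_commute (mem_regAt.1 hs).1
  intro h0
  refine hne ?_
  rw [show s = ((⟨s, hsC⟩ : CU ((cz r N : P) : G)) : G) from rfl,
    L.th_eq hM hmax (irr_isClassFunction χ) (good_self (mem_centralizer_cz h)) hs]
  rw [col] at h0
  rw [h0, zero_mul]

end Col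

end Cfsg.Agent.Blocks.Dihedral
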