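import Mathlib

/-!
# The integral shapes of the columns of a dihedral block

`c i` (`i < m`) and `cs` are integral vectors with the products forced by the orthogonality of the
columns at the rotations; every index has a non-zero entry at the central involution, which is
`uz`.  Apart from one configuration with `m = 3`, excluded by the hypothesis on the degrees, there
are `m + 4` indices, four of them odd.
-/

namespace Cfsg.Agent.Blocks.Dihedral

/-- The value at the central involution. -/
def uz {α : Type*} {m : ℕ} (c : Fin m → α → ℤ) (cs : α → ℤ) (a : α) : ℤ :=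
  2 * ∑ i : Fin m, (-1) ^ ((i : ℕ) + 1) * c i a + cs a

theorem sum_sign {m : ℕ} (hm : Odd m) : ∑ i : Fin m, ((-1 : ℤ)) ^ ((i : ℕ) + 1) = -1 := by
  rw [Fin.sum_univ_eq_sum_range (fun i => ((-1 : ℤ)) ^ (i + 1))]
  simp only [pow_succ, ← Finset.sum_mul, neg_one_geom_sum, if_neg (Nat.not_even_iff_odd.2 hm)]
  norm_num

theorem sq_le_sum {α : Type*} [Fintype α] (f : α → ℤ) (t : Finset α) :
    ∑ a ∈ t, f a ^ 2 ≤ ∑ a, f a ^ 2 :=
  Finset.sum_le_sum_of_subset_of_nonneg (Finset.subset_univ t) fun _ _ _ => sq_nonneg _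

theorem int_cases_of_sq_le_one {x : ℤ} (h : x ^ 2 ≤ 3) : x = -1 ∨ x = 0 ∨ x = 1 := by
  have h1 : |x| ≤ 1 := by nlinarith [abs_nonneg x, sq_abs x]
  rw [abs_le] at h1
  omega

/-- A sum of squares equal to the number two, all terms non-zero, has two unit terms. -/
theorem unit_terms {α : Type*} {t : Finset α} {f : α → ℤ} {k : ℕ} (hk : k ≤ 3)
    (hne : ∀ a ∈ t, f a ≠ 0) (h : ∑ a ∈ t, f a ^ 2 = (k : ℤ)) :
    t.card = k ∧ ∀ a ∈ t, f a = 1 ∨ f a = -1 := by
  have hu : ∀ a ∈ t, f a = 1 ∨ f a = -1 := fun a ha => by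
    have h1 := Finset.single_le_sum (f := fun a => f a ^ 2) (fun _ _ => sq_nonneg _) ha
    simp only [h] at h1
    have h2 : |f a| < 2 := abs_lt_of_sq_lt_sq (by
      calc f a ^ 2 ≤ (k : ℤ) := h1
        _ < 2 ^ 2 := by norm_num; omega) (by norm_num)
    have := abs_lt.1 h2
    have := hne a ha
    omega
  refine ⟨?_, hu⟩
  rw [Finset.sum_congr rfl (g := fun _ => (1 : ℤ)) fun a ha => by rcases hu a ha with e | e <;> simp [e],
    Finset.sum_const] at h
  simpa using h

section Normal

variable {α : Type*} [Fintype α] [DecidableEq α] {m : ℕ}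

/-- The indicator of a finite set, as integers. -/
def ind (S : Finset α) (a : α) : ℤ := if a ∈ S then 1 else 0

variable {S : Fin m → Finset α} {cs : α → ℤ}

/-- The conclusion for vectors with a common core `{a, b}`. -/
theorem shape_core {a b : α} (hab : a ≠ b) {x : Fin m → α} (hxa : ∀ i, x i ≠ a)
    (hxb : ∀ i, x i ≠ b) (hx : Function.Injective x) (hS : ∀ i, S i = {a, b, x i})
    (hm : Odd m) (hss : ∑ t, cs t ^ 2 = 4)
    (hne : ∀ t, uz (fun i => ind (S i)) cs t ≠ 0)
    (h0 : ∀ i, cs (x i) = 0) (hab2 : cs a + cs b = 2) :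
    Fintype.card α = m + 4 ∧
      (Finset.univ.filter fun t => Odd (uz (fun i => ind (S i)) cs t)).card = 4 ∧
      ∀ t, Odd (uz (fun i => ind (S i)) cs t) ∨ uz (fun i => ind (S i)) cs t = 2 ∨
        uz (fun i => ind (S i)) cs t = -2 := by
  have hUa : uz (fun i => ind (S i)) cs a = -2 + cs a := by
    simp [uz, ind, hS, sum_sign hm]
  have hUb : uz (fun i => ind (S i)) cs b = -2 + cs b := by
    simp [uz, ind, hS, sum_sign hm]
  have hUx : ∀ i, uz (fun j => ind (S j)) cs (x i) = 2 * (-1) ^ ((i : ℕ) + 1) := fun i => by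
    simp [uz, ind, hS, hxa, hxb, hx.eq_iff, h0, Finset.sum_ite_eq]
  have hsq := sq_le_sum cs {a, b}
  rw [Finset.sum_pair hab, hss] at hsq
  have hne_a := hne a
  have hne_b := hne b
  rw [hUa] at hne_a
  rw [hUb] at hne_b
  have ha1 : cs a = 1 := by
    have h1 : cs a ^ 2 ≤ 4 := le_trans (le_add_of_nonneg_right (sq_nonneg _)) hsq
    have h2 : |cs a| ≤ 2 := abs_le_of_sq_le_sq (by norm_num; exact h1) (by norm_num)
    have := abs_le.1 h2
    have hb' : cs b = 2 - cs a := by omega
    rw [hb'] at hsq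
    obtain h | h | h | h | h : cs a = -2 ∨ cs a = -1 ∨ cs a = 0 ∨ cs a = 1 ∨ cs a = 2 := by omega
    all_goals first | omega | (rw [h] at hsq; norm_num at hsq)
  have hb1 : cs b = 1 := by omega
  set K : Finset α := insert a (insert b (Finset.univ.image x)) with hK
  have hKc : K.card = m + 2 := by
    rw [hK, Finset.card_insert_of_notMem (by simp [hab, hxa]),
      Finset.card_insert_of_notMem (by simp [hxb]), Finset.card_image_of_injective _ hx]
    simp
  set T := Finset.univ \ K with hT
  have hTne : ∀ t ∈ T, cs t ≠ 0 ∧ uz (fun i => ind (S i)) cs t = cs t := fun t ht => by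
    have h1 : t ∉ K := (Finset.mem_sdiff.1 ht).2
    simp only [hK, Finset.mem_insert, Finset.mem_image, Finset.mem_univ, true_and, not_or,
      not_exists] at h1
    have h2 : uz (fun i => ind (S i)) cs t = cs t := by
      simp [uz, ind, hS, h1.1, h1.2.1, fun i => Ne.symm (h1.2.2 i)]
    exact ⟨fun h => hne t (h2.trans h), h2⟩
  have hTs : ∑ t ∈ T, cs t ^ 2 = ((2 : ℕ) : ℤ) := by
    have h1 := Finset.sum_sdiff (Finset.subset_univ K) (f := fun t => cs t ^ 2)
    rw [hss, hK, Finset.sum_insert (by simp [hab, hxa]), Finset.sum_insert (by simp [hxb]),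
      Finset.sum_image fun i _ j _ h => hx h] at h1
    simp only [ha1, hb1, h0] at h1
    rw [hT, hK]
    norm_num at h1 ⊢
    linarith
  obtain ⟨hTc, hTu⟩ := unit_terms (by norm_num) (fun t ht => (hTne t ht).1) hTs
  have hodd : (Finset.univ.filter fun t => Odd (uz (fun i => ind (S i)) cs t)) =
      insert a (insert b T) := by
    ext t
    simp only [Finset.mem_filter, Finset.mem_univ, true_and, Finset.mem_insert]
    by_cases ht : t ∈ K
    · simp only [hK, Finset.mem_insert, Finset.mem_image, Finset.mem_univ, true_and] at ht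
      rcases ht with rfl | rfl | ⟨i, rfl⟩
      · simp [hUa, ha1]
      · simp [hUb, hb1]
      · simp [hUx, hxa, hxb, hT, hK, parity_simps]
    · have htT : t ∈ T := Finset.mem_sdiff.2 ⟨Finset.mem_univ t, ht⟩
      refine iff_of_true ?_ (Or.inr (Or.inr htT))
      rw [(hTne t htT).2]
      rcases hTu t htT with h | h <;> simp [h]
  refine ⟨?_, ?_, fun t => ?_⟩
  · have h := Finset.card_sdiff_add_card_eq_card (Finset.subset_univ K)
    rw [← hT, hTc, hKc, Finset.card_univ] at h
    omega
  · rw [hodd, Finset.card_insert_of_notMem (by simp [hab, hT, hK]),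
      Finset.card_insert_of_notMem (by simp [hT, hK]), hTc]
  · by_cases ht : t ∈ Finset.univ.image x
    · obtain ⟨i, -, rfl⟩ := Finset.mem_image.1 ht
      rw [hUx]
      rcases neg_one_pow_eq_or ℤ ((i : ℕ) + 1) with h | h <;> simp [h]
    · left
      have h1 : t ∈ Finset.univ.filter fun t => Odd (uz (fun i => ind (S i)) cs t) := by
        rw [hodd]
        simp only [Finset.mem_insert]
        by_cases ha : t = a
        · exact Or.inl ha
        by_cases hb : t = b
        · exact Or.inr (Or.inl hb)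
        refine Or.inr (Or.inr (Finset.mem_sdiff.2 ⟨Finset.mem_univ _, ?_⟩))
        rw [hK]
        simp only [Finset.mem_insert, not_or]
        exact ⟨ha, hb, ht⟩
      exact (Finset.mem_filter.1 h1).2

/-- The degree condition. -/
def DegOk (c : Fin m → α → ℤ) (cs : α → ℤ) (i₁ : Fin m) : Prop :=
  ∃ δ : α → ℝ, (∀ t, δ t ≠ 0) ∧ (∀ i, ∑ t, (c i t : ℝ) * δ t = 0) ∧
    ∑ t, (cs t : ℝ) * δ t = 0 ∧
    ∑ t, (uz c cs t : ℝ) ^ 2 * (2 * (c i₁ t : ℝ) - (cs t : ℝ)) / δ t =
      - ∑ t, (uz c cs t : ℝ) ^ 3 / δ t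

end Normal

section Exotic

variable {α : Type*} [Fintype α] [DecidableEq α] {S : Fin 3 → Finset α} {cs : α → ℤ}

/-- The first exceptional configuration is impossible. -/
theorem not_exotic {a b : α} (hab : a ≠ b) {x : Fin 3 → α} (hxa : ∀ i, x i ≠ a)
    (hxb : ∀ i, x i ≠ b) (hx : Function.Injective x) (hS : ∀ i, S i = {a, b, x i})
    (hss : ∑ t, cs t ^ 2 = 4) (hne : ∀ t, uz (fun i => ind (S i)) cs t ≠ 0)
    (hx1 : ∀ i, cs (x i) = 1) (ha : cs a = 1) (hb : cs b = 0)
    (hE : Fintype.card α ≤ 5 → DegOk (fun i => ind (S i)) cs 1) : False := by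
  have h01 : x 0 ≠ x 1 := hx.ne (by decide)
  have h02 : x 0 ≠ x 2 := hx.ne (by decide)
  have h12 : x 1 ≠ x 2 := hx.ne (by decide)
  set K : Finset α := {a, b, x 0, x 1, x 2} with hK
  have hsum : ∀ {R : Type} [AddCommMonoid R] (f : α → R),
      ∑ t ∈ K, f t = f a + (f b + (f (x 0) + (f (x 1) + f (x 2)))) := by
    intro R _ f
    rw [hK, Finset.sum_insert (by simp [hab, (hxa _).symm]),
      Finset.sum_insert (by simp [(hxb _).symm]), Finset.sum_insert (by simp [h01, h02]),
      Finset.sum_insert (by simp [h12]), Finset.sum_singleton]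
  have hU : (Finset.univ : Finset α) = K := by
    refine (Finset.eq_univ_of_forall fun t => by_contra fun ht => hne t ?_).symm
    have h1 := sq_le_sum cs (insert t K)
    rw [Finset.sum_insert ht, hsum, hss, ha, hb, hx1, hx1, hx1] at h1
    have h2 : cs t = 0 := by nlinarith [sq_nonneg (cs t)]
    simp only [hK, Finset.mem_insert, Finset.mem_singleton, not_or] at ht
    simp [uz, ind, hS, h2, ht, Fin.sum_univ_three]
  obtain ⟨δ, hδ, hc, hcs, hEq⟩ := hE (by
    rw [← Finset.card_univ, hU, hK]
    exact Finset.card_le_five)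
  simp only [hU, hsum] at hc hcs hEq
  have e0 := hc 0
  have e1 := hc 1
  have e2 := hc 2
  simp only [ind, hS, uz, Fin.sum_univ_three, ha, hb, hx1, Finset.mem_insert, Finset.mem_singleton,
    hab, hab.symm, hxa, hxb, (hxa _).symm, (hxb _).symm, h01, h02, h12, h01.symm, h02.symm, h12.symm] at e0 e1 e2 hcs hEq
  norm_num at e0 e1 e2 hcs hEq
  have hX1 : δ (x 1) = δ (x 0) := by linarith
  have hX2 : δ (x 2) = δ (x 0) := by linarith
  have hA : δ a = -3 * δ (x 0) := by linarith
  have hB : δ b = 2 * δ (x 0) := by linarith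
  rw [hX1, hX2, hA, hB] at hEq
  have h0 := hδ (x 0)
  field_simp at hEq
  norm_num at hEq

/-- The second exceptional configuration is impossible. -/
theorem not_exotic' {a b u v : α} (h1 : a ≠ b) (h2 : a ≠ u) (h3 : a ≠ v) (h4 : b ≠ u)
    (h5 : b ≠ v) (h6 : u ≠ v) (hS0 : S 0 = {a, b, u}) (hS1 : S 1 = {a, b, v})
    (hS2 : S 2 = {b, u, v}) (hss : ∑ t, cs t ^ 2 = 4)
    (hin : ∀ i, ∑ t ∈ S i, cs t = 2)
    (hne : ∀ t, uz (fun i => ind (S i)) cs t ≠ 0)
    (hE : Fintype.card α ≤ 5 → DegOk (fun i => ind (S i)) cs 1) : False := by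
  have hsum : ∀ {R : Type} [AddCommMonoid R] (f : α → R),
      ∑ t ∈ ({a, b, u, v} : Finset α), f t = f a + (f b + (f u + f v)) := by
    intro R _ f
    rw [Finset.sum_insert (by simp [h1, h2, h3]), Finset.sum_insert (by simp [h4, h5]),
      Finset.sum_insert (by simp [h6]), Finset.sum_singleton]
  have e0 := hin 0
  have e1 := hin 1
  have e2 := hin 2
  rw [hS0, Finset.sum_insert (by simp [h1, h2]), Finset.sum_insert (by simp [h4]),
    Finset.sum_singleton] at e0
  rw [hS1, Finset.sum_insert (by simp [h1, h3]), Finset.sum_insert (by simp [h5]),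
    Finset.sum_singleton] at e1
  rw [hS2, Finset.sum_insert (by simp [h4, h5]), Finset.sum_insert (by simp [h6]),
    Finset.sum_singleton] at e2
  have hq := sq_le_sum cs {a, b, u, v}
  rw [hsum, hss] at hq
  have hv : cs v = cs a := by omega
  have hu : cs u = cs a := by omega
  have hb : cs b = 2 - 2 * cs a := by omega
  rw [hv, hu, hb] at hq
  have hA : cs a = 0 ∨ cs a = 1 := by
    have hlo : 0 ≤ cs a := by nlinarith
    have hhi : cs a ≤ 1 := by nlinarith
    omega
  rcases hA with hA | hA
  · refine hne b ?_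
    simp [uz, ind, hS0, hS1, hS2, Fin.sum_univ_three, hb, hA, h4, h5, h1.symm]
  have hb0 : cs b = 0 := by omega
  set T := Finset.univ \ ({a, b, u, v} : Finset α) with hT
  have hTne : ∀ t ∈ T, cs t ≠ 0 := fun t ht h => hne t (by
    have h7 := (Finset.mem_sdiff.1 ht).2
    simp only [Finset.mem_insert, Finset.mem_singleton, not_or] at h7
    simp [uz, ind, hS0, hS1, hS2, Fin.sum_univ_three, h, h7])
  have hTs : ∑ t ∈ T, cs t ^ 2 = ((1 : ℕ) : ℤ) := by
    have h := Finset.sum_sdiff (Finset.subset_univ ({a, b, u, v} : Finset α))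
      (f := fun t => cs t ^ 2)
    rw [hss, hsum, hv, hu, hb0, hA] at h
    rw [hT]
    norm_num at h ⊢
    linarith
  obtain ⟨hTc, hTu⟩ := unit_terms (by norm_num) hTne hTs
  obtain ⟨y, hy⟩ := Finset.card_eq_one.1 hTc
  have hyT : y ∈ T := by rw [hy]; exact Finset.mem_singleton_self y
  have hyn := (Finset.mem_sdiff.1 hyT).2
  simp only [Finset.mem_insert, Finset.mem_singleton, not_or] at hyn
  obtain ⟨hya, hyb, hyu, hyv⟩ := hyn
  have hU : (Finset.univ : Finset α) = insert y {a, b, u, v} := by
    refine (Finset.eq_univ_of_forall fun t => ?_).symm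
    by_cases ht : t ∈ ({a, b, u, v} : Finset α)
    · exact Finset.mem_insert_of_mem ht
    · have : t ∈ T := Finset.mem_sdiff.2 ⟨Finset.mem_univ _, ht⟩
      rw [hy, Finset.mem_singleton] at this
      rw [this]
      exact Finset.mem_insert_self _ _
  obtain ⟨δ, hδ, hc, hcs, hEq⟩ := hE (by
    rw [← Finset.card_univ, hU]
    exact Finset.card_le_five)
  have hynot : y ∉ ({a, b, u, v} : Finset α) := by simp [hya, hyb, hyu, hyv]
  simp only [hU, Finset.sum_insert hynot, hsum] at hc hcs hEq
  have f0 := hc 0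
  have f1 := hc 1
  have f2 := hc 2
  simp only [ind, hS0, hS1, hS2, uz, Fin.sum_univ_three, hA, hb0, hu, hv, Finset.mem_insert,
    Finset.mem_singleton, h1, h2, h3, h4, h5, h6, h1.symm, h2.symm, h3.symm, h4.symm, h5.symm,
    h6.symm, hya, hyb, hyu, hyv] at f0 f1 f2 hcs hEq
  norm_num at f0 f1 f2 hcs hEq
  have g1 : δ v = δ u := by linarith
  have g2 : δ u = δ a := by linarith
  have g3 : δ b = -2 * δ a := by linarith
  have h0 := hδ a
  rcases hTu y hyT with e | e <;> rw [e] at hcs hEq <;> push_cast at hcs hEq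
  · have g4 : δ y = -3 * δ a := by linarith
    rw [g1, g2, g3, g4] at hEq
    field_simp at hEq
    norm_num at hEq
  · have g4 : δ y = 3 * δ a := by linarith
    rw [g1, g2, g3, g4] at hEq
    field_simp at hEq
    norm_num at hEq

end Exotic

variable {α : Type*} [Fintype α] [DecidableEq α] {m : ℕ}

/-- The shapes after the signs have been absorbed. -/
theorem shape_ind {S : Fin m → Finset α} {cs : α → ℤ} (hm : Odd m)
    (hcard : ∀ i, (S i).card = 3) (hint : ∀ i j, i ≠ j → (S i ∩ S j).card = 2)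
    (hss : ∑ t, cs t ^ 2 = 4) (hin : ∀ i, ∑ t ∈ S i, cs t = 2)
    (hne : ∀ t, uz (fun i => ind (S i)) cs t ≠ 0)
    (hE : ∀ i₁ : Fin m, (i₁ : ℕ) = 1 → m = 3 → Fintype.card α ≤ 5 →
      DegOk (fun i => ind (S i)) cs i₁) :
    Fintype.card α = m + 4 ∧
      (Finset.univ.filter fun t => Odd (uz (fun i => ind (S i)) cs t)).card = 4 ∧
      ∀ t, Odd (uz (fun i => ind (S i)) cs t) ∨ uz (fun i => ind (S i)) cs t = 2 ∨
        uz (fun i => ind (S i)) cs t = -2 := by
  rcases Nat.lt_or_ge m 2 with hm2 | hm2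
  · have hm1 : m = 1 := by obtain ⟨k, hk⟩ := hm; omega
    subst hm1
    obtain ⟨p, q, w, hpq, hpw, hqw, hS⟩ := Finset.card_eq_three.1 (hcard 0)
    have h := hin 0
    rw [hS, Finset.sum_insert (by simp [hpq, hpw]), Finset.sum_insert (by simp [hqw]),
      Finset.sum_singleton] at h
    have hq := sq_le_sum cs {p, q, w}
    rw [Finset.sum_insert (by simp [hpq, hpw]), Finset.sum_insert (by simp [hqw]),
      Finset.sum_singleton, hss] at hq
    have hSi : ∀ i : Fin 1, S i = S 0 := fun i => by rw [Subsingleton.elim i 0]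
    have hzero : cs p = 0 ∨ cs q = 0 ∨ cs w = 0 := by
      by_contra hcon
      push Not at hcon
      obtain ⟨hp, hq', hw⟩ := hcon
      have h1 := sq_pos_of_ne_zero hp
      have h2 := sq_pos_of_ne_zero hq'
      have h3 := sq_pos_of_ne_zero hw
      rcases int_cases_of_sq_le_one (x := cs p) (by omega) with e | e | e <;>
        rcases int_cases_of_sq_le_one (x := cs q) (by omega) with e' | e' | e' <;>
        rcases int_cases_of_sq_le_one (x := cs w) (by omega) with e'' | e'' | e'' <;>
        omega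
    rcases hzero with h0 | h0 | h0
    · exact shape_core (x := fun _ => p) hqw (fun _ => hpq) (fun _ => hpw)
        (fun i j _ => Subsingleton.elim i j)
        (fun i => by rw [hSi, hS]; ext; simp; tauto) hm hss hne (fun _ => h0) (by omega)
    · exact shape_core (x := fun _ => q) hpw (fun _ => hpq.symm) (fun _ => hqw)
        (fun i j _ => Subsingleton.elim i j)
        (fun i => by rw [hSi, hS]; ext; simp; tauto) hm hss hne (fun _ => h0) (by omega)
    · exact shape_core (x := fun _ => w) hpq (fun _ => hpw.symm) (fun _ => hqw.symm)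
        (fun i j _ => Subsingleton.elim i j)
        (fun i => by rw [hSi, hS]) hm hss hne (fun _ => h0) (by omega)
  have hm3 : 3 ≤ m := by obtain ⟨k, hk⟩ := hm; omega
  set i₀ : Fin m := ⟨0, by omega⟩
  set i₁ : Fin m := ⟨1, by omega⟩
  have h01 : i₀ ≠ i₁ := by simp [i₀, i₁, Fin.ext_iff]
  obtain ⟨a, b, hab, hI⟩ := Finset.card_eq_two.1 (hint i₀ i₁ h01)
  by_cases hcore : ∀ i, a ∈ S i ∧ b ∈ S i
  · have hsub : ∀ i, ({a, b} : Finset α) ⊆ S i := fun i => by
      simp [Finset.insert_subset_iff, (hcore i).1, (hcore i).2]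
    have hx : ∀ i, ∃ x, S i \ {a, b} = {x} := fun i => Finset.card_eq_one.1 (by
      have := Finset.card_sdiff_add_card_eq_card (hsub i)
      rw [hcard, Finset.card_pair hab] at this
      omega)
    choose x hx' using hx
    have hxm : ∀ i, x i ∈ S i \ {a, b} := fun i => by rw [hx']; exact Finset.mem_singleton_self _
    have hxa : ∀ i, x i ≠ a := fun i h => (Finset.mem_sdiff.1 (hxm i)).2 (by simp [h])
    have hxb : ∀ i, x i ≠ b := fun i h => (Finset.mem_sdiff.1 (hxm i)).2 (by simp [h])
    have hS : ∀ i, S i = {a, b, x i} := fun i => by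
      have := Finset.sdiff_union_of_subset (hsub i)
      rw [hx'] at this
      rw [← this]
      ext; simp; tauto
    have hinj : Function.Injective x := fun i j h => by_contra fun hij => by
      have h2 := hint i j hij
      rw [hS i, hS j, h, Finset.inter_self, ← h, ← hS i, hcard] at h2
      omega
    have hγ : ∀ i, cs (x i) = 2 - cs a - cs b := fun i => by
      have h := hin i
      rw [hS, Finset.sum_insert (by simp [hab, (hxa i).symm]),
        Finset.sum_insert (by simp [(hxb i).symm]), Finset.sum_singleton] at h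
      omega
    set γ := 2 - cs a - cs b with hγdef
    by_cases hγ0 : γ = 0
    · exact shape_core hab hxa hxb hinj hS hm hss hne (fun i => (hγ i).trans hγ0) (by omega)
    exfalso
    have hq := sq_le_sum cs (insert a (insert b (Finset.univ.image x)))
    rw [Finset.sum_insert (by simp [hab, hxa]), Finset.sum_insert (by simp [hxb]),
      Finset.sum_image fun i _ j _ h => hinj h, hss] at hq
    simp only [hγ, Finset.sum_const, Finset.card_univ, Fintype.card_fin, nsmul_eq_mul] at hq
    have hg2 := sq_pos_of_ne_zero hγ0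
    have hm' : (3 : ℤ) ≤ m := by exact_mod_cast hm3
    have hg1 : γ ^ 2 ≤ 1 := by nlinarith [sq_nonneg (cs a), sq_nonneg (cs b)]
    have hg1' : γ ^ 2 = 1 := by omega
    rw [hg1', mul_one] at hq
    have hm4 : m = 3 := by
      have : (m : ℤ) ≤ 4 := by nlinarith [sq_nonneg (cs a), sq_nonneg (cs b)]
      obtain ⟨k, hk⟩ := hm
      omega
    subst hm4
    push_cast at hq
    rcases int_cases_of_sq_le_one (x := cs a) (by nlinarith [sq_nonneg (cs b)]) with ea | ea | ea
    · rcases int_cases_of_sq_le_one (x := cs b) (by nlinarith) with eb | eb | eb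
      all_goals rcases int_cases_of_sq_le_one (x := γ) (by omega) with eg | eg | eg
      all_goals first | omega | (rw [ea, eb] at hq; norm_num at hq)
    · rcases int_cases_of_sq_le_one (x := cs b) (by nlinarith) with eb | eb | eb
      all_goals rcases int_cases_of_sq_le_one (x := γ) (by omega) with eg | eg | eg
      all_goals try omega
      exact not_exotic hab.symm hxb hxa hinj (fun i => by rw [hS]; ext; simp; tauto) hss hne
        (fun i => (hγ i).trans eg) eb ea (hE 1 rfl rfl)
    · rcases int_cases_of_sq_le_one (x := cs b) (by nlinarith) with eb | eb | eb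
      all_goals rcases int_cases_of_sq_le_one (x := γ) (by omega) with eg | eg | eg
      all_goals try omega
      exact not_exotic hab hxa hxb hinj hS hss hne
        (fun i => (hγ i).trans eg) ea eb (hE 1 rfl rfl)
  -- a vector avoiding part of the core
  exfalso
  push Not at hcore
  obtain ⟨l, hl⟩ := hcore
  wlog ha : a ∉ S l generalizing a b
  · exact this b a hab.symm (by rw [hI, Finset.pair_comm]) (fun hb => absurd hb (hl (not_not.1 ha)))
      (hl (not_not.1 ha))
  clear hl
  have hmem : a ∈ S i₀ ∧ a ∈ S i₁ ∧ b ∈ S i₀ ∧ b ∈ S i₁ := by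
    have ha' : a ∈ S i₀ ∩ S i₁ := by rw [hI]; simp
    have hb' : b ∈ S i₀ ∩ S i₁ := by rw [hI]; simp
    exact ⟨(Finset.mem_inter.1 ha').1, (Finset.mem_inter.1 ha').2, (Finset.mem_inter.1 hb').1,
      (Finset.mem_inter.1 hb').2⟩
  have hpick : ∀ i, a ∈ S i → (S i).erase a ⊆ S l := fun i hi => by
    have hne' : l ≠ i := fun h => ha (h ▸ hi)
    have h1 : S l ∩ S i ⊆ (S i).erase a := fun t ht => by
      obtain ⟨ht1, ht2⟩ := Finset.mem_inter.1 ht
      exact Finset.mem_erase.2 ⟨fun h => ha (h ▸ ht1), ht2⟩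
    rw [← Finset.eq_of_subset_of_card_le h1 (by
      rw [Finset.card_erase_of_mem hi, hcard, hint l i hne'])]
    exact Finset.inter_subset_left
  have hbl : b ∈ S l := hpick i₀ hmem.1 (Finset.mem_erase.2 ⟨hab.symm, hmem.2.2.1⟩)
  have hthird : ∀ i, a ∈ S i → b ∈ S i → ∃ u, u ≠ a ∧ u ≠ b ∧ S i = {a, b, u} ∧ u ∈ S l := by
    intro i hia hib
    have hsub : ({a, b} : Finset α) ⊆ S i := by simp [Finset.insert_subset_iff, hia, hib]
    obtain ⟨u, hu⟩ := Finset.card_eq_one.1 (show (S i \ {a, b}).card = 1 by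
      have := Finset.card_sdiff_add_card_eq_card hsub
      rw [hcard, Finset.card_pair hab] at this
      omega)
    have hum : u ∈ S i \ {a, b} := by rw [hu]; exact Finset.mem_singleton_self _
    obtain ⟨hu1, hu2⟩ := Finset.mem_sdiff.1 hum
    simp only [Finset.mem_insert, Finset.mem_singleton, not_or] at hu2
    refine ⟨u, hu2.1, hu2.2, ?_, hpick i hia (Finset.mem_erase.2 ⟨hu2.1, hu1⟩)⟩
    have := Finset.sdiff_union_of_subset hsub
    rw [hu] at this
    rw [← this]
    ext; simp; tauto
  obtain ⟨u, hua, hub, hS0, hul⟩ := hthird i₀ hmem.1 hmem.2.2.1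
  obtain ⟨v, hva, hvb, hS1, hvl⟩ := hthird i₁ hmem.2.1 hmem.2.2.2
  have huv : u ≠ v := fun h => by
    have := hint i₀ i₁ h01
    rw [hS0, hS1, h, Finset.inter_self, ← h, ← hS0, hcard] at this
    omega
  have hSl : S l = {b, u, v} := by
    refine (Finset.eq_of_subset_of_card_le ?_ ?_).symm
    · simp [Finset.insert_subset_iff, hbl, hul, hvl]
    · rw [hcard, Finset.card_insert_of_notMem (by simp [hub.symm, hvb.symm]),
        Finset.card_pair huv]
  have hl0 : l ≠ i₀ := fun h => ha (h ▸ hmem.1)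
  have hl1 : l ≠ i₁ := fun h => ha (h ▸ hmem.2.1)
  have hfour : ∀ i, i ≠ i₀ → i ≠ i₁ → i ≠ l → S i = {a, u, v} := by
    intro i hi0 hi1 hil
    have hai : a ∈ S i := by
      by_contra hai
      have : S l ⊆ S i := by
        have key : ∀ j, a ∈ S j → i ≠ j → (S j).erase a ⊆ S i := fun j hj hij => by
          have h1 : S i ∩ S j ⊆ (S j).erase a := fun t ht => by
            obtain ⟨ht1, ht2⟩ := Finset.mem_inter.1 ht
            exact Finset.mem_erase.2 ⟨fun h => hai (h ▸ ht1), ht2⟩
          rw [← Finset.eq_of_subset_of_card_le h1 (by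
            rw [Finset.card_erase_of_mem hj, hcard, hint i j hij])]
          exact Finset.inter_subset_left
        rw [hSl]
        simp only [Finset.insert_subset_iff, Finset.singleton_subset_iff]
        exact ⟨key i₀ hmem.1 hi0 (Finset.mem_erase.2 ⟨hab.symm, hmem.2.2.1⟩),
          key i₀ hmem.1 hi0 (Finset.mem_erase.2 ⟨hua, by simp [hS0]⟩),
          key i₁ hmem.2.1 hi1 (Finset.mem_erase.2 ⟨hva, by simp [hS1]⟩)⟩
      have h2 := hint l i (Ne.symm hil)
      rw [Finset.inter_eq_left.2 this, hcard] at h2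
      omega
    have hbi : b ∉ S i := by
      intro hbi
      obtain ⟨y, hya, hyb, hSi, hyl⟩ := hthird i hai hbi
      rw [hSl] at hyl
      simp only [Finset.mem_insert, Finset.mem_singleton] at hyl
      rcases hyl with h | h | h
      · exact hyb h
      · have h2 := hint i i₀ hi0
        rw [hSi, hS0, h, Finset.inter_self, ← hS0, hcard] at h2
        omega
      · have h2 := hint i i₁ hi1
        rw [hSi, hS1, h, Finset.inter_self, ← hS1, hcard] at h2
        omega
    have hsl := hpick i hai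
    refine Finset.eq_of_subset_of_card_le (fun t ht => ?_) ?_
    · by_cases hta : t = a
      · simp [hta]
      have h3 := hsl (Finset.mem_erase.2 ⟨hta, ht⟩)
      rw [hSl] at h3
      simp only [Finset.mem_insert, Finset.mem_singleton] at h3 ⊢
      rcases h3 with h | h | h
      · exact absurd (h ▸ ht) hbi
      · exact Or.inr (Or.inl h)
      · exact Or.inr (Or.inr h)
    · rw [hcard]
      exact Finset.card_le_three
  have hm4 : m = 3 := by
    by_contra hne4
    have hm5 : 5 ≤ m := by obtain ⟨k, hk⟩ := hm; omega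
    have hbig : 1 < (Finset.univ \ ({i₀, i₁, l} : Finset (Fin m))).card := by
      have := Finset.card_sdiff_add_card_eq_card (Finset.subset_univ ({i₀, i₁, l} : Finset (Fin m)))
      rw [Finset.card_univ, Fintype.card_fin] at this
      have := (Finset.card_le_three (a := i₀) (b := i₁) (c := l))
      omega
    obtain ⟨i, hi, j, hj, hij⟩ := Finset.one_lt_card.1 hbig
    simp only [Finset.mem_sdiff, Finset.mem_univ, true_and, Finset.mem_insert,
      Finset.mem_singleton, not_or] at hi hj
    have h2 := hint i j hij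
    rw [hfour i hi.1 hi.2.1 hi.2.2, hfour j hj.1 hj.2.1 hj.2.2, Finset.inter_self,
      ← hfour i hi.1 hi.2.1 hi.2.2, hcard] at h2
    omega
  subst hm4
  have hl2 : l = 2 := by
    rcases (show l = 0 ∨ l = 1 ∨ l = 2 from (by decide : ∀ i : Fin 3, i = 0 ∨ i = 1 ∨ i = 2) l) with h | h | h
    · exact absurd h hl0
    · exact absurd h hl1
    · exact h
  subst hl2
  exact not_exotic' hab hua.symm hva.symm hub.symm hvb.symm huv hS0 hS1 hSl hss hin hne
    (hE 1 rfl rfl)

/-- A vector with squared length three has three unit entries. -/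
theorem three_units {f : α → ℤ} (h : ∑ t, f t ^ 2 = 3) :
    (∀ t, f t = 0 ∨ f t = 1 ∨ f t = -1) ∧ (Finset.univ.filter fun t => f t ≠ 0).card = 3 := by
  have hs : ∑ t ∈ Finset.univ.filter (fun t => f t ≠ 0), f t ^ 2 = ((3 : ℕ) : ℤ) := by
    rw [Finset.sum_filter]
    refine (Finset.sum_congr rfl fun t _ => ?_).trans (by exact_mod_cast h)
    by_cases ht : f t = 0 <;> simp [ht]
  obtain ⟨hc, hu⟩ := unit_terms le_rfl (fun t ht => (Finset.mem_filter.1 ht).2) hs
  refine ⟨fun t => ?_, hc⟩
  by_cases ht : f t = 0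
  · exact Or.inl ht
  · exact Or.inr (hu t (Finset.mem_filter.2 ⟨Finset.mem_univ t, ht⟩))

/-- The shapes of the vectors. -/
theorem shape {c : Fin m → α → ℤ} {cs : α → ℤ} (hm : Odd m)
    (hcc : ∀ i j, ∑ t, c i t * c j t = 2 + if i = j then 1 else 0)
    (hss : ∑ t, cs t ^ 2 = 4) (hcs : ∀ i, ∑ t, c i t * cs t = 2)
    (hne : ∀ t, uz c cs t ≠ 0)
    (hE : ∀ i₁ : Fin m, (i₁ : ℕ) = 1 → m = 3 → Fintype.card α ≤ 5 → DegOk c cs i₁) :
    Fintype.card α = m + 4 ∧ (Finset.univ.filter fun t => Odd (uz c cs t)).card = 4 ∧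
      ∀ t, Odd (uz c cs t) ∨ uz c cs t = 2 ∨ uz c cs t = -2 := by
  classical
  have hu := fun i => three_units (f := c i) (by
    simp_rw [sq]; rw [hcc i i, if_pos rfl]; norm_num)
  set S : Fin m → Finset α := fun i => Finset.univ.filter fun t => c i t ≠ 0 with hS
  have hmemS : ∀ i t, t ∈ S i ↔ c i t ≠ 0 := fun i t => by simp [hS]
  have hcard : ∀ i, (S i).card = 3 := fun i => (hu i).2
  have hprod : ∀ i j, ∑ t, c i t * c j t = ∑ t ∈ S i ∩ S j, c i t * c j t := fun i j => by
    refine (Finset.sum_subset (Finset.subset_univ _) fun t _ ht => ?_).symm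
    rw [Finset.mem_inter, hmemS, hmemS, not_and_or, not_not, not_not] at ht
    rcases ht with h | h <;> simp [h]
  have hterm : ∀ i j, ∀ t ∈ S i ∩ S j, c i t * c j t = 1 ∨ c i t * c j t = -1 := by
    intro i j t ht
    rw [Finset.mem_inter, hmemS, hmemS] at ht
    rcases ((hu i).1 t).resolve_left ht.1 with h | h <;>
      rcases ((hu j).1 t).resolve_left ht.2 with h' | h' <;> simp [h, h']
  have hagree : ∀ i j, i ≠ j → (S i ∩ S j).card = 2 ∧ ∀ t ∈ S i ∩ S j, c i t = c j t := by
    intro i j hij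
    have h := hcc i j
    rw [if_neg hij, add_zero, hprod] at h
    have hle : 2 ≤ (S i ∩ S j).card := by
      have := Finset.sum_le_card_nsmul (S i ∩ S j) (fun t => c i t * c j t) 1 fun t ht => by
        rcases hterm i j t ht with e | e <;> simp [e]
      rw [h, nsmul_eq_mul, mul_one] at this
      exact_mod_cast this
    have heven : (2 : ℤ) ∣ ((S i ∩ S j).card : ℤ) - 2 := by
      have h' : (2 : ℤ) ∣ ∑ t ∈ S i ∩ S j, (1 - c i t * c j t) :=
        Finset.dvd_sum fun t ht => by rcases hterm i j t ht with e | e <;> simp [e]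
      rwa [Finset.sum_sub_distrib, h, Finset.sum_const, nsmul_one] at h'

    have hub := Finset.card_le_card (Finset.inter_subset_left (s₁ := S i) (s₂ := S j))
    rw [hcard] at hub
    have h2 : (S i ∩ S j).card = 2 := by omega
    refine ⟨h2, ?_⟩
    obtain ⟨p, q, hpq, hI⟩ := Finset.card_eq_two.1 h2
    rw [hI, Finset.sum_pair hpq] at h
    intro t ht
    have hp := hterm i j p (by rw [hI]; simp)
    have hq := hterm i j q (by rw [hI]; simp)
    have h1 : c i t * c j t = 1 := by
      rw [hI] at ht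
      simp only [Finset.mem_insert, Finset.mem_singleton] at ht
      rcases ht with rfl | rfl <;> omega
    rcases Int.eq_one_or_neg_one_of_mul_eq_one' h1 with ⟨e, e'⟩ | ⟨e, e'⟩ <;> rw [e, e']
  set σ : α → ℤ := fun t => if ∃ i, c i t = -1 then -1 else 1 with hσdef
  have hσ : ∀ t, σ t = 1 ∨ σ t = -1 := fun t => by simp only [hσdef]; split_ifs <;> simp
  have hσsq : ∀ t, σ t * σ t = 1 := fun t => by rcases hσ t with h | h <;> simp [h]
  have hci : ∀ i t, c i t = σ t * ind (S i) t := by
    intro i t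
    by_cases ht : t ∈ S i
    · rw [ind, if_pos ht, mul_one]
      simp only [hσdef]
      rcases ((hu i).1 t).resolve_left ((hmemS i t).1 ht) with h | h
      · rw [h, if_neg]
        rintro ⟨j, hj⟩
        have hij : i ≠ j := fun e => by rw [e, hj] at h; norm_num at h
        have := (hagree i j hij).2 t (Finset.mem_inter.2 ⟨ht, (hmemS j t).2 (by simp [hj])⟩)
        rw [h, hj] at this
        norm_num at this
      · rw [h, if_pos ⟨i, h⟩]
    · rw [ind, if_neg ht, mul_zero]
      exact not_not.1 fun h => ht ((hmemS i t).2 h)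
  set cs' : α → ℤ := fun t => σ t * cs t with hcs'
  have huz : ∀ t, uz (fun i => ind (S i)) cs' t = σ t * uz c cs t := fun t => by
    simp only [uz, hcs', mul_add, Finset.mul_sum]
    congr 1
    refine Finset.sum_congr rfl fun i _ => ?_
    rw [hci i t]
    linear_combination (-(2 * (-1) ^ ((i : ℕ) + 1) * ind (S i) t)) * hσsq t
  have hin : ∀ i, ∑ t ∈ S i, cs' t = 2 := fun i => by
    rw [← hcs i, ← Finset.sum_filter_add_sum_filter_not Finset.univ (fun t => t ∈ S i)
      (fun t => c i t * cs t)]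
    rw [Finset.sum_eq_zero (s := Finset.univ.filter fun t => ¬ t ∈ S i) fun t ht => by
      rw [hci, ind, if_neg (Finset.mem_filter.1 ht).2]; ring, add_zero]
    refine Finset.sum_congr (by ext; simp) fun t ht => ?_
    rw [hci, ind, if_pos (by simpa using ht), mul_one]
  have hss' : ∑ t, cs' t ^ 2 = 4 := by
    rw [← hss]
    exact Finset.sum_congr rfl fun t _ => by
      simp only [hcs', mul_pow, sq (σ t), hσsq, one_mul]
  have hne' : ∀ t, uz (fun i => ind (S i)) cs' t ≠ 0 := fun t => by
    rw [huz]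
    exact mul_ne_zero (by rcases hσ t with h | h <;> simp [h]) (hne t)
  have hE' : ∀ i₁ : Fin m, (i₁ : ℕ) = 1 → m = 3 → Fintype.card α ≤ 5 →
      DegOk (fun i => ind (S i)) cs' i₁ := by
    intro i₁ h1 h3 h5
    obtain ⟨δ, hδ, hd, hds, heq⟩ := hE i₁ h1 h3 h5
    have hσR : ∀ t, (σ t : ℝ) * σ t = 1 := fun t => by exact_mod_cast hσsq t
    have hσ0 : ∀ t, (σ t : ℝ) ≠ 0 := fun t h => by simpa [h] using hσR t
    refine ⟨fun t => (σ t : ℝ) * δ t, fun t => mul_ne_zero (hσ0 t) (hδ t), fun i => ?_, ?_, ?_⟩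
    · rw [← hd i]
      refine Finset.sum_congr rfl fun t _ => ?_
      rw [hci i t]; push_cast; ring
    · rw [← hds]
      refine Finset.sum_congr rfl fun t _ => ?_
      simp only [hcs']
      push_cast
      linear_combination ((cs t : ℝ) * δ t) * hσR t
    · refine (Finset.sum_congr rfl fun t _ => ?_).trans
        (heq.trans (neg_inj.2 (Finset.sum_congr rfl fun t _ => ?_)))
      · rw [huz, hci i₁ t]
        simp only [hcs']
        have := hδ t
        have := hσ0 t
        rcases hσ t with e | e <;> simp [e] <;> field_simp <;> ring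
      · rw [huz]
        have := hδ t
        have := hσ0 t
        rcases hσ t with e | e <;> simp [e] <;> field_simp
  obtain ⟨h1, h2, h3⟩ :=
    shape_ind hm hcard (fun i j h => (hagree i j h).1) hss' hin hne' hE'
  have hpar : ∀ t, Odd (uz (fun i => ind (S i)) cs' t) ↔ Odd (uz c cs t) := fun t => by
    rw [huz]
    rcases hσ t with h | h <;> simp [h]
  refine ⟨h1, ?_, fun t => ?_⟩
  · rw [← h2]
    exact congrArg Finset.card (Finset.filter_congr fun t _ => (hpar t).symm)
  · rcases h3 t with h | h | h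
    · exact Or.inl ((hpar t).1 h)
    all_goals
      rw [huz] at h
      rcases hσ t with e | e <;> rw [e] at h <;> omega

end Cfsg.Agent.Blocks.Dihedral
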