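import Mathlib
import Cfsg.Agent.Lib.Blocks.Dihedral.Columns
import Cfsg.Agent.Lib.Blocks.Dihedral.Lattice
import Cfsg.Agent.Lib.Blocks.Star.GoodFun

/-!
# Integral coordinates of the columns at the rotations

The sums `Σ (1 - ω ^ (j * k)) col (r ^ j) / N` are integers; their products follow from the
orthogonality of the columns, and the columns are recovered from them.
-/

set_option linter.style.haveILetI false
set_option linter.unusedSectionVars false

namespace Cfsg.Agent.Blocks.Dihedral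

open Cfsg.Agent.Blocks Cfsg.Agent.Characters Cfsg.Agent.Blocks.Star
open Cfsg.Agent.Blocks.CentralStep

universe u

section Cyclic

variable {N : ℕ} {ω : ℂ} (hω : IsPrimitiveRoot ω N)

/-- The coordinate of a periodic function. -/
noncomputable def coefC (ω : ℂ) (N : ℕ) (g : ℕ → ℂ) (k : ℕ) : ℂ :=
  (∑ j ∈ Finset.range N, (1 - ω ^ (j * k)) * g j) / (N : ℂ)

theorem coefC_zero (g : ℕ → ℂ) : coefC ω N g 0 = 0 := by simp [coefC]

include hω

theorem sum_root (i : ℕ) :
    ∑ k ∈ Finset.range N, ω ^ (k * i) = if N ∣ i then (N : ℂ) else 0 := by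
  simp only [mul_comm _ i, pow_mul]
  split_ifs with hd
  · simp [(hω.pow_eq_one_iff_dvd i).2 hd]
  · rw [geom_sum_eq fun e => hd ((hω.pow_eq_one_iff_dvd i).1 e), ← pow_mul, mul_comm, pow_mul,
      hω.pow_eq_one, one_pow, sub_self, zero_div]

theorem sum_weights (k l : ℕ) :
    ∑ i ∈ Finset.range N, (1 - ω ^ (i * k)) * (1 - ω ^ (i * l)) =
      (N : ℂ) * (1 - (if N ∣ k then 1 else 0) - (if N ∣ l then 1 else 0) +
        (if N ∣ k + l then 1 else 0)) := by
  have e : ∀ i : ℕ, (1 - ω ^ (i * k)) * (1 - ω ^ (i * l)) =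
      1 - ω ^ (i * k) - ω ^ (i * l) + ω ^ (i * (k + l)) := fun i => by
    rw [mul_add i k l, pow_add]; ring
  simp only [e, Finset.sum_add_distrib, Finset.sum_sub_distrib, sum_root hω, Finset.sum_const,
    Finset.card_range, nsmul_eq_mul, mul_one]
  split_ifs <;> ring

theorem pow_refl {i : ℕ} (hi : i ≤ N) (l : ℕ) :
    ω ^ ((N - i) * l) = ω ^ (i * ((N - 1) * l)) := by
  have h1 : ω ^ ((N - i) * l) * ω ^ (i * l) = 1 := by
    rw [← pow_add, ← add_mul, Nat.sub_add_cancel hi, pow_mul, hω.pow_eq_one, one_pow]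
  have h2 : ω ^ (i * ((N - 1) * l)) * ω ^ (i * l) = 1 := by
    rcases Nat.eq_zero_or_pos N with hN | hN
    · simp [show i = 0 by omega]
    · rw [← pow_add, ← mul_add, show (N - 1) * l + l = N * l by
        rw [← Nat.succ_mul, Nat.succ_eq_add_one, Nat.sub_add_cancel hN],
        mul_left_comm, pow_mul, hω.pow_eq_one, one_pow]
  exact mul_right_cancel₀ (right_ne_zero_of_mul_eq_one h1) (h1.trans h2.symm)

/-- Symmetric functions have symmetric coordinates. -/
theorem coefC_refl {g : ℕ → ℂ} (hg : ∀ j ≤ N, g (N - j) = g j) {k : ℕ} (hk : k ≤ N) :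
    coefC ω N g (N - k) = coefC ω N g k := by
  unfold coefC
  congr 1
  rcases Nat.eq_zero_or_pos N with hN | hN
  · subst hN; simp
  obtain ⟨M, rfl⟩ : ∃ M, N = M + 1 := ⟨N - 1, by omega⟩
  rw [Finset.sum_range_succ', Finset.sum_range_succ']
  simp only [zero_mul, pow_zero, sub_self, add_zero]
  rw [← Finset.sum_range_reflect (fun j => (1 - ω ^ ((j + 1) * k)) * g (j + 1))]
  refine Finset.sum_congr rfl fun j hj => ?_
  rw [Finset.mem_range] at hj
  rw [show M - 1 - j + 1 = M + 1 - (j + 1) by omega, hg (j + 1) (by omega), pow_refl hω (by omega),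
    mul_comm (j + 1) (M + 1 - k), pow_refl hω hk]
  ring_nf

/-- Recovering the function. -/
theorem coefC_inverse (g : ℕ → ℂ) {i : ℕ} (hi : 1 ≤ i) (hi' : i < N) :
    ∑ k ∈ Finset.range N, ω ^ (k * i) * coefC ω N g k = -g (N - i) := by
  simp only [coefC, Finset.sum_div, Finset.mul_sum]
  rw [Finset.sum_comm]
  have e : ∀ j ∈ Finset.range N,
      ∑ k ∈ Finset.range N, ω ^ (k * i) * ((1 - ω ^ (j * k)) * g j / (N : ℂ)) =
        -(g j) * if N ∣ i + j then 1 else 0 := by
    intro j _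
    have e1 : ∀ k : ℕ, ω ^ (k * i) * ((1 - ω ^ (j * k)) * g j / (N : ℂ)) =
        (ω ^ (k * i) - ω ^ (k * (i + j))) * (g j / (N : ℂ)) := fun k => by
      rw [mul_add k i j, pow_add, mul_comm k j]; ring
    simp only [e1, ← Finset.sum_mul, Finset.sum_sub_distrib, sum_root hω,
      if_neg fun hd : N ∣ i => absurd (Nat.le_of_dvd (by omega) hd) (by omega)]
    have hN : (N : ℂ) ≠ 0 := Nat.cast_ne_zero.2 (by omega)
    split_ifs <;> field_simp <;> ring
  rw [Finset.sum_congr rfl e, Finset.sum_eq_single (N - i)]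
  · rw [if_pos ⟨1, by omega⟩, mul_one]
  · intro j hj hne
    rw [Finset.mem_range] at hj
    rw [if_neg, mul_zero]
    rintro ⟨c, hc⟩
    obtain rfl | rfl | h2 : c = 0 ∨ c = 1 ∨ 2 ≤ c := by omega
    · omega
    · omega
    · have := Nat.mul_le_mul (le_refl N) h2
      omega
  · intro h
    exact absurd (Finset.mem_range.2 (by omega)) h

/-- The products of the coordinates of orthogonal functions. -/
theorem coefC_gram {ι : Type*} (t : Finset ι) (g : ι → ℕ → ℂ)
    (horth : ∀ i j, 1 ≤ i → i < N → 1 ≤ j → j < N →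
      ∑ a ∈ t, g a i * g a j = (N : ℂ) * ((if j = i then 1 else 0) + if j = N - i then 1 else 0))
    (hN : 0 < N) (k l : ℕ) :
    ∑ a ∈ t, coefC ω N (g a) k * coefC ω N (g a) l =
      (1 - (if N ∣ k then 1 else 0) - (if N ∣ l then 1 else 0) +
        (if N ∣ k + l then 1 else 0)) +
      (1 - (if N ∣ k then 1 else 0) - (if N ∣ (N - 1) * l then 1 else 0) +
        (if N ∣ k + (N - 1) * l then 1 else 0)) := by
  have hN0 : (N : ℂ) ≠ 0 := Nat.cast_ne_zero.2 hN.ne'
  refine mul_left_cancel₀ (mul_ne_zero hN0 hN0) ?_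
  have e1 : ∀ a, (N : ℂ) * N * (coefC ω N (g a) k * coefC ω N (g a) l) =
      ∑ i ∈ Finset.range N, ∑ j ∈ Finset.range N,
        ((1 - ω ^ (i * k)) * (1 - ω ^ (j * l))) * (g a i * g a j) := by
    intro a
    rw [coefC, coefC]
    field_simp
    rw [Finset.sum_mul_sum]
    exact Finset.sum_congr rfl fun i _ => Finset.sum_congr rfl fun j _ => by ring
  rw [Finset.mul_sum, Finset.sum_congr rfl fun a _ => e1 a, Finset.sum_comm]
  have e2 : ∀ i ∈ Finset.range N, ∑ a ∈ t, ∑ j ∈ Finset.range N,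
      ((1 - ω ^ (i * k)) * (1 - ω ^ (j * l))) * (g a i * g a j) =
      (N : ℂ) * ((1 - ω ^ (i * k)) * (1 - ω ^ (i * l)) +
        (1 - ω ^ (i * k)) * (1 - ω ^ (i * ((N - 1) * l)))) := by
    intro i hi
    rw [Finset.mem_range] at hi
    rw [Finset.sum_comm]
    simp only [← Finset.mul_sum]
    rcases Nat.eq_zero_or_pos i with h0 | h1
    · subst h0; simp
    rw [Finset.sum_congr rfl (g := fun j => ((1 - ω ^ (i * k)) * (1 - ω ^ (j * l))) *
      ((N : ℂ) * ((if j = i then 1 else 0) + if j = N - i then 1 else 0))) fun j hj => by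
      rcases Nat.eq_zero_or_pos j with hj0 | hj1
      · subst hj0; simp
      · rw [horth i j h1 hi hj1 (Finset.mem_range.1 hj)]]
    simp only [mul_add, Finset.sum_add_distrib, mul_ite, mul_one, mul_zero, Finset.sum_ite_eq',
      Finset.mem_range, if_pos hi, if_pos (show N - i < N by omega), pow_refl hω hi.le]
    ring
  rw [Finset.sum_congr rfl e2, ← Finset.mul_sum, Finset.sum_add_distrib, sum_weights hω,
    sum_weights hω]
  ring

end Cyclic

/-- The alternating sum of a symmetric sequence. -/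
theorem alt_sum {h : ℕ} (hh : Even h) (h0 : 0 < h) (C : ℕ → ℂ) (hC0 : C 0 = 0)
    (hC : ∀ k ≤ 2 * h, C (2 * h - k) = C k) :
    ∑ k ∈ Finset.range (2 * h), (-1 : ℂ) ^ k * C k =
      C h + 2 * ∑ i ∈ Finset.range (h - 1), (-1 : ℂ) ^ (i + 1) * C (i + 1) := by
  obtain ⟨m, rfl⟩ : ∃ m, h = m + 1 := ⟨h - 1, by omega⟩
  rw [two_mul (m + 1), Finset.sum_range_add, Finset.sum_range_succ',
    Finset.sum_range_succ' (n := m), Nat.add_sub_cancel]
  have e : ∑ j ∈ Finset.range m, (-1 : ℂ) ^ (m + 1 + (j + 1)) * C (m + 1 + (j + 1)) =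
      ∑ j ∈ Finset.range m, (-1 : ℂ) ^ (j + 1) * C (j + 1) := by
    rw [← Finset.sum_range_reflect (fun j => (-1 : ℂ) ^ (j + 1) * C (j + 1))]
    refine Finset.sum_congr rfl fun j hj => ?_
    rw [Finset.mem_range] at hj
    rw [show m - 1 - j + 1 = m - j by omega,
      show m + 1 + (j + 1) = 2 * (m + 1) - (m - j) by omega, hC (m - j) (by omega)]
    congr 1
    rw [neg_one_pow_eq_pow_mod_two, neg_one_pow_eq_pow_mod_two (m - j)]
    congr 1
    obtain ⟨c, hc⟩ := hh
    omega
  rw [e]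
  simp only [hC0, mul_zero, add_zero, hh.neg_one_pow, one_mul]
  ring

open Cfsg.Agent.BlockCharsA.BrauerPairs Cfsg.Agent.BlockCharsA.PairConj

variable {G : Type u} [Group G] [Finite G] {M : Ideal Cfsg.AlgInt}
  {B : Set (Cfsg.IrrCharacter G)} {P : Subgroup G}
  {e : Set (Cfsg.IrrCharacter (Subgroup.centralizer (P : Set G)))} {r : P} {N : ℕ}
  [Fintype G] [Fintype (Cfsg.IrrCharacter G)] [Fintype (CU ((cz r N : P) : G))]
  [Fintype (Cfsg.IrrCharacter (top' P ((cz r N : P) : G)))]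
  (hM : Cfsg.IsPModular 2 M) (hmax : Cfsg.IsMaximalBrauerPair 2 M B P e) (h : IsDih P r N)
  (L : Loc 2 M e (cz r N))

/-- The column at the powers of the rotation. -/
noncomputable def colPow (L : Loc 2 M e (cz r N)) (χ : Cfsg.IrrCharacter G) (j : ℕ) : ℂ :=
  col L (χ : G → ℂ) (r ^ j)

include h

theorem pow_sub_inv {j : ℕ} (hj : j ≤ N) : r ^ (N - j) = (r ^ j)⁻¹ :=
  eq_inv_of_mul_eq_one_left (by
    rw [← pow_add, Nat.sub_add_cancel hj, ← h.ord, pow_orderOf_eq_one])

theorem pow_ne_one' {j : ℕ} (h1 : 1 ≤ j) (h2 : j < N) : r ^ j ≠ 1 := fun e => by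
  have := Nat.le_of_dvd h1 (h.ord ▸ orderOf_dvd_of_pow_eq_one e)
  omega

/-- The coordinates are integers. -/
theorem coefC_int {ω : ℂ} (hω : ω ^ N = 1) (χ : Cfsg.IrrCharacter G) (k : ℕ) :
    ∃ z : ℤ, coefC ω N (colPow L χ) k = (z : ℂ) := by
  haveI : NeZero N := ⟨by have := h.four_le; omega⟩
  have hrN : r ^ N = 1 := by rw [← h.ord, pow_orderOf_eq_one]
  let φ : Multiplicative (ZMod N) →* P :=
    { toFun := fun a => r ^ a.toAdd.val
      map_one' := by simp
      map_mul' := fun a b => by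
        rw [toAdd_mul, ZMod.val_add, ← pow_add]
        exact (pow_eq_pow_mod _ hrN).symm }
  let μ : Multiplicative (ZMod N) →* ℂ :=
    { toFun := fun a => ω ^ (a.toAdd.val * k)
      map_one' := by simp
      map_mul' := fun a b => by
        rw [toAdd_mul, ZMod.val_add, ← pow_add, ← add_mul, mul_comm _ k, mul_comm _ k, pow_mul,
          pow_mul (m := k)]
        exact (pow_eq_pow_mod _ (by rw [← pow_mul, mul_comm, pow_mul, hω, one_pow])).symm }
  haveI : Finite (Multiplicative (ZMod N)) := inferInstance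
  have hgen := isGen_comp φ (isGen_col L χ)
  obtain ⟨z₀, hz₀⟩ := linear_sum_of_gen hgen (1 : Multiplicative (ZMod N) →* ℂ)
  obtain ⟨z₁, hz₁⟩ := linear_sum_of_gen hgen μ
  refine ⟨z₀ - z₁, ?_⟩
  have hN0 : (N : ℂ) ≠ 0 := Nat.cast_ne_zero.2 (NeZero.ne N)
  have hre : ∀ F : ℕ → ℂ, ∑ a : Multiplicative (ZMod N), F a.toAdd.val =
      ∑ j ∈ Finset.range N, F j := fun F => by
    refine Finset.sum_bij' (fun a _ => a.toAdd.val) (fun j _ => Multiplicative.ofAdd (j : ZMod N))
      (fun a _ => Finset.mem_range.2 (ZMod.val_lt _)) (fun j _ => Finset.mem_univ _)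
      (fun a _ => ?_) (fun j hj => ?_) fun _ _ => rfl
    · simp
    · simp [ZMod.val_natCast, Nat.mod_eq_of_lt (Finset.mem_range.1 hj)]
  have hcard : Nat.card (Multiplicative (ZMod N)) = N := by
    rw [Nat.card_congr Multiplicative.toAdd, Nat.card_zmod]
  rw [hcard] at hz₀ hz₁
  simp only [MonoidHom.one_apply, mul_one] at hz₀
  have e0 : ∑ j ∈ Finset.range N, colPow L χ j = (N : ℂ) * z₀ := by
    rw [← hre, ← hz₀]; rfl
  have e1 : ∑ j ∈ Finset.range N, colPow L χ j * ω ^ (j * k) = (N : ℂ) * z₁ := by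
    rw [← hre (fun j => colPow L χ j * ω ^ (j * k)), ← hz₁]; rfl
  rw [coefC, div_eq_iff hN0]
  simp only [sub_mul, one_mul, Finset.sum_sub_distrib]
  rw [e0, Finset.sum_congr rfl fun j _ => mul_comm (ω ^ (j * k)) (colPow L χ j), e1]
  push_cast
  ring

include hM hmax

theorem colPow_refl (χ : Cfsg.IrrCharacter G) {j : ℕ} (hj : j ≤ N) :
    colPow L χ (N - j) = colPow L χ j := by
  rw [colPow, colPow, pow_sub_inv h hj]
  exact col_inv hM hmax h L (Subgroup.npow_mem_zpowers r j) χ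

open scoped Classical in
theorem colPow_orth {i j : ℕ} (h1 : 1 ≤ i) (hi : i < N) (h2 : 1 ≤ j) (hj : j < N) :
    ∑ χ ∈ Finset.univ.filter (fun χ => χ ∈ B), colPow L χ i * colPow L χ j =
      (N : ℂ) * ((if j = i then 1 else 0) + if j = N - i then 1 else 0) := by
  rw [show (fun χ => colPow L χ i * colPow L χ j) = fun χ : Cfsg.IrrCharacter G =>
    col L (χ : G → ℂ) (r ^ i) * col L (χ : G → ℂ) (r ^ j) from rfl,
    col_orth hM hmax h L (Subgroup.npow_mem_zpowers r i) (pow_ne_one' h h1 hi)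
      (Subgroup.npow_mem_zpowers r j) (pow_ne_one' h h2 hj), ← pow_sub_inv h hi.le]
  have hinj : ∀ {a b : ℕ}, a < N → b < N → (r ^ a = r ^ b ↔ a = b) := fun ha hb =>
    ⟨fun e => pow_injOn_Iio_orderOf (h.ord.symm ▸ ha) (h.ord.symm ▸ hb) e, fun e => by rw [e]⟩
  simp only [hinj hj hi, hinj hj (show N - i < N by omega)]

/-- The coordinates at a primitive root are integers with known products. -/
theorem exists_gram [Fintype B] {ω : ℂ} (hω : IsPrimitiveRoot ω N) :
    ∃ c : B → ℕ → ℤ, (∀ (t : B) k, coefC ω N (colPow L (t : Cfsg.IrrCharacter G)) k = (c t k : ℂ)) ∧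
      ∀ k l, 1 ≤ k → k < N → 1 ≤ l → l < N →
        ∑ t, (c t k : ℂ) * (c t l : ℂ) =
          2 + ((if k + l = N then 1 else 0) + if k = l then 1 else 0) := by
  classical
  have h4 := h.four_le
  choose c hc using fun (t : B) k => coefC_int h L hω.pow_eq_one (t : Cfsg.IrrCharacter G) k
  have hsub : ∀ F : Cfsg.IrrCharacter G → ℂ,
      ∑ χ ∈ Finset.univ.filter (fun χ => χ ∈ B), F χ = ∑ t : B, F t := fun F =>
    Finset.sum_subtype _ (fun χ => by simp) F
  have hgram : ∀ k l, 1 ≤ k → k < N → 1 ≤ l → l < N →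
      ∑ t, (c t k : ℂ) * (c t l : ℂ) =
        2 + ((if k + l = N then 1 else 0) + if k = l then 1 else 0) := by
    intro k l hk hk' hl hl'
    simp only [← hc]
    rw [← hsub (fun χ => coefC ω N (colPow L χ) k * coefC ω N (colPow L χ) l),
      coefC_gram hω _ _ (fun i j a b c d => colPow_orth hM hmax h L a b c d) (by omega)]
    have d1 : ∀ {x}, 1 ≤ x → x < N → ¬ N ∣ x := fun hx hx' hd =>
      absurd (Nat.le_of_dvd hx hd) (by omega)
    have d2 : N ∣ k + l ↔ k + l = N := ⟨fun ⟨a, ha⟩ => by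
      obtain rfl | rfl | h2 : a = 0 ∨ a = 1 ∨ 2 ≤ a := by omega
      · omega
      · omega
      · have := Nat.mul_le_mul (le_refl N) h2
        omega, fun e => e ▸ dvd_refl _⟩
    have d3 : N ∣ (N - 1) * l ↔ N ∣ l := by
      refine ⟨fun hd => ?_, fun hd => dvd_mul_of_dvd_right hd _⟩
      have := Nat.dvd_sub (dvd_mul_right N l) hd
      rwa [← Nat.sub_mul, show N - (N - 1) = 1 by omega, one_mul] at this
    have d4 : N ∣ k + (N - 1) * l ↔ k = l := by
      constructor
      · intro hd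
        have h1 := (Int.natCast_dvd_natCast.2 hd)
        push_cast [Nat.cast_sub (show 1 ≤ N by omega)] at h1
        have h2 : (N : ℤ) ∣ (k : ℤ) - l := by
          have h3 := dvd_sub h1 (dvd_mul_right (N : ℤ) l)
          rwa [show (k : ℤ) + ((N : ℤ) - 1) * l - N * l = (k : ℤ) - l by ring] at h3
        have := Int.eq_zero_of_abs_lt_dvd h2 (by rw [abs_lt]; omega)
        omega
      · rintro rfl
        refine ⟨k, ?_⟩
        rw [Nat.sub_mul, one_mul]
        have := Nat.le_mul_of_pos_left k (show 0 < N by omega)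
        omega
    simp only [d2, d3, d4, if_neg (d1 hk hk'), if_neg (d1 hl hl')]
    ring
  exact ⟨c, hc, hgram⟩

/-- The integral coordinates of the members of the block. -/
theorem exists_coords [Fintype B] :
    ∃ c : B → ℕ → ℤ,
      (∀ k l, 1 ≤ k → k < N / 2 → 1 ≤ l → l < N / 2 →
        ∑ t, c t k * c t l = 2 + if k = l then 1 else 0) ∧
      (∑ t, c t (N / 2) ^ 2 = 4) ∧
      (∀ k, 1 ≤ k → k < N / 2 → ∑ t, c t k * c t (N / 2) = 2) ∧
      (∀ t : B, col L ((t : Cfsg.IrrCharacter G) : G → ℂ) (cz r N) =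
        -((uz (fun (i : Fin (N / 2 - 1)) (t : B) => c t (i + 1)) (fun t => c t (N / 2)) t : ℤ) : ℂ)) ∧
      (N = 8 → ∀ t : B, col L ((t : Cfsg.IrrCharacter G) : G → ℂ) (r ^ 2) =
        2 * (c t 2 : ℂ) - (c t 4 : ℂ)) ∧
      ∀ k, ∑ t : B, (c t k : ℂ) * ((t : Cfsg.IrrCharacter G) : G → ℂ) 1 = 0 := by
  classical
  have h4 := h.four_le
  obtain ⟨j₀, hj₀, hN⟩ := h.pow
  have hhalf : N = 2 * (N / 2) := by have := h.two_dvd; omega
  have heven : Even (N / 2) := by
    obtain ⟨i, rfl⟩ : ∃ i, j₀ = i + 2 := ⟨j₀ - 2, by omega⟩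
    exact ⟨2 ^ i, by rw [hN, pow_add]; omega⟩
  set ω : ℂ := Complex.exp (2 * Real.pi * Complex.I / N) with hω'
  have hω : IsPrimitiveRoot ω N := Complex.isPrimitiveRoot_exp N (by omega)
  obtain ⟨c, hc, hgram⟩ := exists_gram hM hmax h L hω
  have hsub : ∀ F : Cfsg.IrrCharacter G → ℂ,
      ∑ χ ∈ Finset.univ.filter (fun χ => χ ∈ B), F χ = ∑ t : B, F t := fun F =>
    Finset.sum_subtype _ (fun χ => by simp) F
  have hrefl : ∀ (t : B) k, k ≤ N → coefC ω N (colPow L t) (N - k) = coefC ω N (colPow L t) k :=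
    fun t k hk => coefC_refl hω (fun j hj => colPow_refl hM hmax h L t hj) hk
  have hωh : ω ^ (N / 2) = -1 := by
    have := hω.pow (show 0 < N by omega) (show N = N / 2 * 2 by omega)
    exact this.eq_neg_one_of_two_right
  refine ⟨c, fun k l hk hk' hl hl' => ?_, ?_, fun k hk hk' => ?_, fun t => ?_, fun h8 t => ?_,
    fun k => ?_⟩
  · have := hgram k l hk (by omega) hl (by omega)
    rw [if_neg (show ¬ k + l = N by omega), zero_add] at this
    exact_mod_cast this
  · have := hgram (N / 2) (N / 2) (by omega) (by omega) (by omega) (by omega)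
    rw [if_pos (show N / 2 + N / 2 = N by omega), if_pos rfl] at this
    have e : ((∑ t, c t (N / 2) ^ 2 : ℤ) : ℂ) = ((4 : ℤ) : ℂ) := by
      push_cast; simp only [sq]; rw [this]; norm_num
    exact_mod_cast e
  · have := hgram k (N / 2) hk (by omega) (by omega) (by omega)
    rw [if_neg (show ¬ k + N / 2 = N by omega), if_neg (show ¬ k = N / 2 by omega), add_zero,
      add_zero] at this
    exact_mod_cast this
  · have e1 := coefC_inverse hω (colPow L t) (i := N / 2) (by omega) (by omega)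
    simp only [mul_comm _ (N / 2), pow_mul, hωh] at e1
    have e2 := alt_sum heven (by omega) (fun k => coefC ω N (colPow L t) k) (coefC_zero _)
      (fun k hk => by rw [← hhalf]; exact hrefl t k (by omega))
    rw [← hhalf] at e2
    rw [e2, show N - N / 2 = N / 2 by omega] at e1
    rw [show col L ((t : Cfsg.IrrCharacter G) : G → ℂ) (cz r N) = colPow L t (N / 2) from rfl,
      ← neg_neg (colPow L (t : Cfsg.IrrCharacter G) (N / 2)), ← e1]
    simp only [uz, hc]
    rw [← Fin.sum_univ_eq_sum_range (fun i => (-1 : ℂ) ^ (i + 1) * (c t (i + 1) : ℂ))]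
    push_cast
    ring
  · have e1 := coefC_inverse hω (colPow L t) (i := 2) (by omega) (by omega)
    rw [colPow_refl hM hmax h L _ (by omega)] at e1
    have h4' : ω ^ 4 = -1 := by rw [← hωh, h8]
    have r5 := hrefl t 3 (by omega)
    have r6 := hrefl t 2 (by omega)
    have r7 := hrefl t 1 (by omega)
    have r0 := coefC_zero (ω := ω) (N := N) (colPow L (t : Cfsg.IrrCharacter G))
    rw [show N - 3 = 5 by omega] at r5
    rw [show N - 2 = 6 by omega] at r6
    rw [show N - 1 = 7 by omega] at r7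
    rw [show Finset.range N = Finset.range 8 by rw [h8]] at e1
    simp only [Finset.sum_range_succ, Finset.sum_range_zero, zero_add] at e1
    rw [r0, r5, r6, r7] at e1
    simp only [hc] at e1
    rw [show col L ((t : Cfsg.IrrCharacter G) : G → ℂ) (r ^ 2) = colPow L t 2 from rfl]
    linear_combination e1 - ((c t 1 : ℂ) * (ω ^ 10 - ω ^ 6 + ω ^ 2) +
      (c t 2 : ℂ) * (ω ^ 8 - ω ^ 4 + 2) + (c t 3 : ℂ) * ω ^ 6 + (c t 4 : ℂ) * (ω ^ 4 - 1)) * h4'
  · simp only [← hc]
    rw [← hsub (fun χ => coefC ω N (colPow L χ) k * (χ : G → ℂ) 1)]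
    simp only [coefC, div_mul_eq_mul_div, ← Finset.sum_div, Finset.sum_mul, mul_assoc]
    rw [Finset.sum_comm, Finset.sum_eq_zero fun j hj => ?_, zero_div]
    rw [← Finset.mul_sum]
    rcases Nat.eq_zero_or_pos j with rfl | h1
    · simp
    · rw [show (fun χ : Cfsg.IrrCharacter G => colPow L χ j * (χ : G → ℂ) 1) =
        fun χ : Cfsg.IrrCharacter G => col L (χ : G → ℂ) (r ^ j) * (χ : G → ℂ) 1 from rfl,
        col_regular hM hmax h L (Subgroup.npow_mem_zpowers r j)
          (pow_ne_one' h h1 (Finset.mem_range.1 hj)) (by simp), mul_zero]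

end Cfsg.Agent.Blocks.Dihedral
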