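import Mathlib
import Cfsg.Agent.Lib.Blocks.Dihedral.Columns

/-!
# The nilpotent block of the centraliser of the central involution
-/

set_option linter.style.haveILetI false
set_option linter.unusedSectionVars false

namespace Cfsg.Agent.Blocks.Dihedral

open Cfsg.Agent.Blocks Cfsg.Agent.Characters Cfsg.Agent.Blocks.Star
open Cfsg.Agent.Blocks.CentralStep
open Cfsg.Agent.BlockCharsA.BrauerPairs Cfsg.Agent.BlockCharsA.PairConj
open MonoidAlgebra
open scoped ComplexConjugate

universe u

variable {G : Type u} [Group G] [Finite G] {M : Ideal Cfsg.AlgInt}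
  {B : Set (Cfsg.IrrCharacter G)} {P : Subgroup G}
  {e : Set (Cfsg.IrrCharacter (Subgroup.centralizer (P : Set G)))} {r : P} {N : ℕ}

/-- The central involution, inside its centraliser. -/
noncomputable abbrev zc (L : Loc 2 M e (cz r N)) : CU ((cz r N : P) : G) :=
  ((L.up (cz r N) : top' P ((cz r N : P) : G)) : CU ((cz r N : P) : G))

variable (h : IsDih P r N) (L : Loc 2 M e (cz r N))

theorem zc_commute (c : CU ((cz r N : P) : G)) : Commute (zc L) c :=
  Subtype.ext (commute_of_mem_CU c.2).eq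

include h

theorem zc_sq : zc L * zc L = 1 :=
  Subtype.ext (show ((cz r N : P) : G) * ((cz r N : P) : G) = ((1 : P) : G) from
    congrArg Subtype.val h.z_facts.2)

theorem zc_ne_one : zc L ≠ 1 := fun e =>
  h.z_facts.1 (Subtype.ext (show ((cz r N : P) : G) = 1 from congrArg Subtype.val e))

/-- A character takes values up to a sign at the coset of the central involution. -/
theorem exists_sign (θ : Cfsg.IrrCharacter (CU ((cz r N : P) : G))) :
    ∃ l : ℂ, l * l = 1 ∧ ∀ c, (θ : CU ((cz r N : P) : G) → ℂ) (zc L * c) =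
      l * (θ : CU ((cz r N : P) : G) → ℂ) c := by
  classical
  have hc : IsCentralEl (single (zc L) (1 : ℂ) : MonoidAlgebra ℂ (CU ((cz r N : P) : G))) :=
    fun g a => by
      have : a * g * a⁻¹ = zc L ↔ g = zc L := by
        constructor
        · intro e
          have e2 : a⁻¹ * zc L * a = g := by rw [← e]; group
          rw [← e2, mul_assoc, (zc_commute L a).eq, inv_mul_cancel_left]
        · rintro rfl
          rw [← (zc_commute L a).eq, mul_inv_cancel_right]
      simp [MonoidAlgebra.coeff_single, Finsupp.single_apply, eq_comm (a := zc L), this]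
  have key : ∀ c, (θ : CU ((cz r N : P) : G) → ℂ) (zc L * c) =
      omega (θ : CU ((cz r N : P) : G) → ℂ) (single (zc L) 1) *
        (θ : CU ((cz r N : P) : G) → ℂ) c := fun c => by
    have := evalChar_central_mul θ hc (single c 1)
    rwa [single_mul_single, one_mul, evalChar_single, evalChar_single, one_mul, one_mul] at this
  refine ⟨_, ?_, key⟩
  have h1 := key (zc L)
  have h2 := key 1
  rw [mul_one] at h2
  rw [zc_sq h L, h2, ← mul_assoc] at h1
  exact (mul_eq_right₀ (irr_one_ne_zero θ.2)).1 h1.symm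

theorem apply_zc_ne_zero (θ : Cfsg.IrrCharacter (CU ((cz r N : P) : G))) :
    (θ : CU ((cz r N : P) : G) → ℂ) (zc L) ≠ 0 := by
  obtain ⟨l, hl, hv⟩ := exists_sign h L θ
  rw [← mul_one (zc L), hv]
  exact mul_ne_zero (left_ne_zero_of_mul_eq_one hl) (irr_one_ne_zero θ.2)

variable (hM : Cfsg.IsPModular 2 M) (hmax : Cfsg.IsMaximalBrauerPair 2 M B P e)
include hM

/-- At the central involution only the named block contributes. -/
theorem value_zc {θ : Cfsg.IrrCharacter (CU ((cz r N : P) : G))}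
    (hθ : θ ∈ gAt 2 M e ((cz r N : P) : G)) {s : CU ((cz r N : P) : G)}
    (hs : s ∈ regAt 2 (zc L)) :
    (θ : CU ((cz r N : P) : G) → ℂ) (zc L * s) =
      th (θ : CU ((cz r N : P) : G) → ℂ) (zc L) (eps 2 M L.a (L.up (cz r N))) s := by
  classical
  have hk := orderOf_top hM L.max (L.up (cz r N))
  rw [eq_sum_th hM (θ : CU ((cz r N : P) : G) → ℂ)]
  refine Finset.sum_eq_single_of_mem _ (eps_mem_BI hM L.max _) fun ε hε hne => ?_
  obtain ⟨g, hg, rfl⟩ := mem_BI.1 hε
  refine th_eq_zero hM L.max.1.2.1 hθ hk hg (fun hp => hne ?_) hs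
  obtain ⟨w, x, hw, hx⟩ := (witness_iff hM L.max hk hg).2 hp
  have hwz : w = L.up (cz r N) :=
    Subtype.ext (hw.trans (by rw [← (zc_commute L x).eq, mul_inv_cancel_right]))
  rw [hwz] at hx
  have hxi : x⁻¹ ∈ CU ((L.up (cz r N) : top' P ((cz r N : P) : G)) : CU ((cz r N : P) : G)) :=
    mem_CU_of_commute (zc_commute L x⁻¹)
  rw [← cjE_one (elF _ g), ← inv_mul_cancel x, ← cjE_cjE, hx]
  exact cjE_eq_self (invBy_BI (eps_mem_BI hM L.max _)) hxi

/-- The common factor at the central involution. -/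
theorem base_cz {s : CU ((cz r N : P) : G)} (hs : s ∈ regAt 2 (zc L)) :
    L.base (cz r N) s = (L.χ₀ : CU ((cz r N : P) : G) → ℂ) (zc L * s) :=
  (value_zc h L hM L.mem₀ hs).symm

theorem base_cz_one : L.base (cz r N) 1 = (L.χ₀ : CU ((cz r N : P) : G) → ℂ) (zc L) := by
  rw [base_cz h L hM (mem_regAt.2 ⟨Commute.one_right _, by simp⟩), mul_one]

/-- The characters of larger degree vanish at the other involutions. -/
theorem phi_vanish {ζ : Cfsg.IrrCharacter (top' P ((cz r N : P) : G))}
    (h1 : (ζ : top' P ((cz r N : P) : G) → ℂ) 1 ≠ 1) {a : CU ((cz r N : P) : G)}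
    (ha : a * a = 1) (ha1 : a ≠ 1) (haz : a ≠ zc L) :
    (((L.Φ ζ : gAt 2 M e ((cz r N : P) : G)) : Cfsg.IrrCharacter (CU ((cz r N : P) : G))) :
      CU ((cz r N : P) : G) → ℂ) a = 0 := by
  classical
  haveI := Fact.mk Nat.prime_two
  have hk : ∃ k : ℕ, orderOf a = 2 ^ k :=
    ⟨1, by rw [pow_one]; exact orderOf_eq_prime (by rw [pow_two, ha]) ha1⟩
  have hst : Stable 2 M L.a (ζ : top' P ((cz r N : P) : G) → ℂ) :=
    stable_of_nilpotent hM L.nil L.max (irr_isClassFunction ζ)
  have hPC : P ≤ CU ((cz r N : P) : G) := top_le (cz r N) L.cen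
  set φ : P ≃* top' P ((cz r N : P) : G) := (Subgroup.subgroupOfEquivOfLe hPC).symm
  set ζ' : Cfsg.IrrCharacter P :=
    ⟨(ζ : top' P ((cz r N : P) : G) → ℂ) ∘ φ, (isIrrCharacter_comp_mulEquiv φ).2 ζ.2⟩
  have hζ' : ∀ w : P, (ζ' : P → ℂ) w = (ζ : top' P ((cz r N : P) : G) → ℂ) (φ w) := fun _ => rfl
  rw [L.val hM ζ, ← mul_one a,
    star_mul_wt hM _ _ hk (mem_regAt.2 ⟨Commute.one_right _, by simp⟩)]
  refine Finset.sum_eq_zero fun ε _ => ?_
  by_cases hw : ∃ (w : top' P ((cz r N : P) : G)) (x : CU ((cz r N : P) : G)),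
      (w : CU ((cz r N : P) : G)) = x * a * x⁻¹ ∧ cjE x ε = eps 2 M L.a w
  swap
  · rw [hat_of_not hw, zero_mul]
  obtain ⟨w, x, hwx, hε⟩ := hw
  rw [hat_eq hst hwx hε]
  set w' : P := ⟨((w : CU ((cz r N : P) : G)) : G), w.2⟩
  have hφ : φ w' = w := Subtype.ext (Subtype.ext rfl)
  have hcc : (w : CU ((cz r N : P) : G)) * w = 1 := by
    rw [hwx, show x * a * x⁻¹ * (x * a * x⁻¹) = x * (a * a) * x⁻¹ by group, ha]; group
  have hw'R : w' ∉ Subgroup.zpowers r := fun hR => by
    rcases h.sq_eq_one hR (Subtype.ext (show (w' : G) * w' = 1 from congrArg Subtype.val hcc)) with e1 | e1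
    · refine ha1 ?_
      have : (w : CU ((cz r N : P) : G)) = 1 :=
        Subtype.ext (show (w' : G) = ((1 : P) : G) from congrArg Subtype.val e1)
      rw [hwx] at this
      simpa using this
    · refine haz ?_
      have : (w : CU ((cz r N : P) : G)) = zc L :=
        Subtype.ext (show (w' : G) = ((cz r N : P) : G) from congrArg Subtype.val e1)
      rw [hwx] at this
      rw [show a = x⁻¹ * (x * a * x⁻¹) * x by group, this, mul_assoc, (zc_commute L x).eq,
        inv_mul_cancel_left]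
  rw [← hφ, ← hζ', h.vanish (by rw [hζ', map_one]; exact h1) hw'R, zero_mul]

end Cfsg.Agent.Blocks.Dihedral
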