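import Mathlib
import Cfsg.Agent.Lib.Blocks.GroupAlgebra

/-!
# Products of two elements of a normal set of involutions
-/

set_option linter.style.haveILetI false
set_option linter.unusedSectionVars false

namespace Cfsg.Agent.Blocks.Dihedral

open Cfsg.Agent.Blocks Cfsg.Agent.Characters
open scoped ComplexConjugate Classical

universe u

variable {G : Type u} [Group G] [Fintype G]

/-- The number of `a ∈ S` with `a * g ∈ S`. -/
noncomputable def pairNum (S : Set G) (g : G) : ℂ :=
  ∑ a : G, if a ∈ S ∧ a * g ∈ S then 1 else 0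

variable {S : Set G}

theorem coeff_sq (hinv : ∀ a ∈ S, a⁻¹ = a) (g : G) :
    (ofFun (fun a => if a ∈ S then (1 : ℂ) else 0) *
      ofFun (fun a => if a ∈ S then (1 : ℂ) else 0)).coeff g = pairNum S g := by
  rw [coeff_mul', pairNum]
  refine Finset.sum_congr rfl fun a _ => ?_
  simp only [coeff_ofFun]
  by_cases ha : a ∈ S
  · simp [ha, hinv a ha]
  · simp [ha]

variable (hinv : ∀ a ∈ S, a⁻¹ = a) (hcl : ∀ a x : G, a ∈ S → x * a * x⁻¹ ∈ S)

include hcl in
theorem isClassFunction_indicator :
    Cfsg.IsClassFunction G fun a => if a ∈ S then (1 : ℂ) else 0 := fun a x => by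
  refine if_congr ⟨fun h => ?_, hcl a x⟩ rfl rfl
  have := hcl _ x⁻¹ h
  simpa [mul_assoc] using this

include hinv hcl

theorem isClassFunction_pairNum : Cfsg.IsClassFunction G (pairNum S) := fun g x => by
  rw [← coeff_sq hinv, ← coeff_sq hinv]
  exact central_mul (central_ofFun (isClassFunction_indicator hcl))
    (central_ofFun (isClassFunction_indicator hcl)) g x

theorem pairNum_inv (g : G) : pairNum S g⁻¹ = pairNum S g := by
  refine Finset.sum_congr rfl fun a _ => ?_
  refine if_congr (and_congr_right fun ha => ⟨fun h => ?_, fun h => ?_⟩) rfl rfl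
  · have h2 := hinv _ h
    have h3 := hcl _ a h
    rw [← h2, show a * (a * g⁻¹)⁻¹ * a⁻¹ = a * g * (a⁻¹ * a⁻¹) by group, hinv a ha,
      show a * a = 1 by nth_rw 1 [← hinv a ha]; exact inv_mul_cancel a, mul_one] at h3
    exact h3
  · have h2 := hinv _ h
    have h3 := hcl _ a h
    rw [← h2, show a * (a * g)⁻¹ * a⁻¹ = a * g⁻¹ * (a⁻¹ * a⁻¹) by group, hinv a ha,
      show a * a = 1 by nth_rw 1 [← hinv a ha]; exact inv_mul_cancel a, mul_one] at h3
    exact h3

/-- The coefficient at an irreducible character. -/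
theorem classInner_pairNum (χ : Cfsg.IrrCharacter G) :
    Cfsg.classInner (pairNum S) (χ : G → ℂ) =
      (∑ a : G, if a ∈ S then (χ : G → ℂ) a else 0) ^ 2 / ((Nat.card G : ℂ) * (χ : G → ℂ) 1) := by
  set z := ofFun (fun a => if a ∈ S then (1 : ℂ) else 0) with hz
  have hzc : IsCentralEl z := central_ofFun (isClassFunction_indicator hcl)
  have e1 : ∑ g : G, pairNum S g * conj ((χ : G → ℂ) g) = evalChar (χ : G → ℂ) (z * z) := by
    rw [evalChar_eq_sum]
    refine Fintype.sum_equiv (Equiv.inv G) _ _ fun g => ?_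
    rw [Equiv.inv_apply, coeff_sq hinv, pairNum_inv hinv hcl, char_inv (irr_isCharacter χ)]
  have e2 : evalChar (χ : G → ℂ) z = ∑ a : G, if a ∈ S then (χ : G → ℂ) a else 0 := by
    rw [evalChar_eq_sum]
    simp [hz]
  rw [classInner_def, e1, evalChar_central_mul χ hzc, omega, e2]
  have := irr_one_ne_zero χ.2
  field_simp

end Cfsg.Agent.Blocks.Dihedral
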