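import Mathlib
import Cfsg.Agent.Lib.Blocks.Dihedral.Central
import Cfsg.Agent.Lib.Blocks.Dihedral.Counting

/-!
# The products of two conjugates of the central involution

When the only involutions of the defect group are, as pairs, conjugate to the central one, the
number of ways of writing an element of order four of the defect group and the central involution
as such products gives an identity between the columns.
-/

set_option linter.style.haveILetI false
set_option linter.unusedSectionVars false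

namespace Cfsg.Agent.Blocks.Dihedral

open Cfsg.Agent.Blocks Cfsg.Agent.Characters Cfsg.Agent.Blocks.Star
open Cfsg.Agent.Blocks.CentralStep
open Cfsg.Agent.BlockCharsA.BrauerPairs Cfsg.Agent.BlockCharsA.PairConj
open MonoidAlgebra
open scoped ComplexConjugate

universe u

variable {G : Type u} [Group G] [Finite G]

/-- The `2`-part commutes with what centralises the product. -/
theorem conj_ppart {y c a : G} {k : ℕ} (hy : orderOf y = 2 ^ k) (hc : ¬ 2 ∣ orderOf c)
    (hyc : Commute y c) (ha : a * (y * c) * a⁻¹ = (y * c)⁻¹) : a * y * a⁻¹ = y⁻¹ := by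
  have hco : (2 ^ k).Coprime (orderOf c) :=
    ((Nat.prime_two.coprime_iff_not_dvd).2 hc).pow_left k
  obtain ⟨m, hm1, hm2⟩ := Nat.chineseRemainder hco 1 0
  have h1 : y ^ m = y := by
    rw [← pow_mod_orderOf y m, hy, hm1, ← hy, pow_mod_orderOf, pow_one]
  have h2 : c ^ m = 1 := orderOf_dvd_iff_pow_eq_one.1 (Nat.modEq_zero_iff_dvd.1 hm2)
  have e : (y * c) ^ m = y := by rw [hyc.mul_pow, h1, h2, mul_one]
  rw [← e, ← conj_pow, ha, inv_pow]

variable {M : Ideal Cfsg.AlgInt} {B : Set (Cfsg.IrrCharacter G)} {P : Subgroup G}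
  {e : Set (Cfsg.IrrCharacter (Subgroup.centralizer (P : Set G)))} {r : P} {N : ℕ}
  (hM : Cfsg.IsPModular 2 M) (hmax : Cfsg.IsMaximalBrauerPair 2 M B P e) (h : IsDih P r N)
  [Fintype G] [Fintype (Cfsg.IrrCharacter G)] [Fintype (CU ((cz r N : P) : G))]
  [Fintype (Cfsg.IrrCharacter (top' P ((cz r N : P) : G)))]
  (L : Loc 2 M e (cz r N))

include hM hmax h

/-- With few characters every involution of the top is, as a pair, conjugate to the central one. -/
theorem fused_cz (h8 : N = 8) (hk : Nat.card B ≤ 5) {w : P} (hw1 : w ≠ 1) (hw : w * w = 1) :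
    Fused 2 M e w (cz r N) := by
  classical
  by_cases hR : w ∈ Subgroup.zpowers r
  · obtain e1 | e1 := h.sq_eq_one hR hw
    · exact absurd e1 hw1
    · rw [e1]; exact fused_refl _
  obtain ⟨L⟩ := exists_loc hM hmax (mem_centralizer_cz h) (isNilpotent_central hM hmax h)
  by_contra hn
  have hinj : ∀ a b : ℕ, a < 8 → b < 8 → r ^ a = r ^ b → a = b := fun a b ha hb e =>
    pow_injOn_Iio_orderOf (by rw [Set.mem_Iio, h.ord, h8]; exact ha)
      (by rw [Set.mem_Iio, h.ord, h8]; exact hb) e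
  have hp1 : ∀ i : Fin 4, r ^ ((i : ℕ) + 1) ≠ 1 := fun i e => by
    have := hinj _ 0 (by omega) (by omega) (e.trans (pow_zero r).symm)
    omega
  have hrw : ∀ i : Fin 4, ¬ Fused 2 M e (r ^ ((i : ℕ) + 1)) w := by
    intro i hf
    obtain ⟨x, hx, -⟩ := id hf
    have h2 : r ^ ((i : ℕ) + 1) * r ^ ((i : ℕ) + 1) = 1 := Subtype.ext (by
      have := congrArg Subtype.val hw
      simp only [Subgroup.coe_mul, Subgroup.coe_one, hx] at this ⊢
      rw [show ∀ t : G, x * t * x⁻¹ * (x * t * x⁻¹) = x * (t * t) * x⁻¹ from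
        fun t => by group] at this
      simpa using this)
    rcases h.sq_eq_one (Subgroup.npow_mem_zpowers r _) h2 with e1 | e1
    · exact hp1 i e1
    · rw [e1] at hf
      exact hn hf.symm
  let v : Option (Fin 4) → P := fun o => o.elim w fun i => r ^ ((i : ℕ) + 1)
  have hv : ∀ o, v o ≠ 1 := by
    rintro (_ | i)
    · exact hw1
    · exact hp1 i
  have hne : ∀ i j, i ≠ j → ¬ Fused 2 M e (v i) (v j) := by
    rintro (_ | i) (_ | j) hij hf
    · exact hij rfl
    · exact hrw j hf.symm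
    · exact hrw i hf
    · rcases fused_rot hM hmax h L (Subgroup.npow_mem_zpowers r _) (hp1 i)
        (Subgroup.npow_mem_zpowers r _) hf with e1 | e1
      · have := hinj _ _ (by omega) (by omega) e1
        exact hij (congrArg some (Fin.ext (by omega)))
      · rw [← pow_sub_inv' h.ord (show (i : ℕ) + 1 ≤ N by omega)] at e1
        have := hinj _ _ (by omega) (by omega) e1
        exact hij (congrArg some (Fin.ext (by omega)))
  have h5 := rank_add_le hM hmax v hv hne
  have h1 := one_le_blockRank hM hmax.1.2.1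
  simp only [Fintype.card_option, Fintype.card_fin] at h5
  omega
where
  pow_sub_inv' {H : Type u} [Group H] {r : H} {N j : ℕ} (ho : orderOf r = N) (hj : j ≤ N) :
      r ^ (N - j) = (r ^ j)⁻¹ :=
    eq_inv_of_mul_eq_one_left (by rw [← pow_add, Nat.sub_add_cancel hj, ← ho, pow_orderOf_eq_one])

variable (hf : ∀ w : P, w ≠ 1 → w * w = 1 → Fused 2 M e w (cz r N))

omit h in
/-- The parts of the other characters vanish. -/
theorem th_outside {v : P} {χ : Cfsg.IrrCharacter G} (hχ : χ ∉ B) {s : G}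
    (hs : s ∈ regAt 2 (v : G)) : th (χ : G → ℂ) (v : G) (eps 2 M e v) s = 0 := by
  obtain ⟨g, hg, hgB, he⟩ := eps_spec hM hmax v
  rw [he]
  refine th_eq_zero hM (isPBlock_blockOf M χ) (mem_blockOf_self hM χ) (orderOf_top hM hmax v) hgB
    (fun hp => hχ ?_) hs
  rw [brauerPairOf_unique hM ((block_of_subpairLE hM (B := B) hg).2 hmax.1) hp]
  exact mem_blockOf_self hM χ

omit h in
theorem col_outside {v : P} (hv : Good (cz r N) v)
    (hcl : ∀ w : P, ∀ y ∈ CU ((cz r N : P) : G), (w : G) = y * (v : G) * y⁻¹ → Good (cz r N) w)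
    {χ : Cfsg.IrrCharacter G} (hχ : χ ∉ B) : col L (χ : G → ℂ) v = 0 := by
  obtain ⟨s, hs, hne⟩ := base_ne_zero L hM hmax hv hcl
  obtain ⟨h1, h2⟩ := mem_regAt.1 hs
  have hsG : (s : G) ∈ regAt 2 (v : G) :=
    mem_regAt.2 ⟨h1.map (CU ((cz r N : P) : G)).subtype, by rwa [Subgroup.orderOf_coe]⟩
  have := th_outside hM hmax hχ hsG
  rw [L.th_eq hM hmax (irr_isClassFunction χ) hv hsG] at this
  exact (mul_eq_zero.1 this).resolve_right hne

include hf in
/-- Under the hypothesis the whole value at the central involution is the named part. -/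
theorem value_cz {χ : Cfsg.IrrCharacter G} (hχ : χ ∈ B) :
    (χ : G → ℂ) ((cz r N : P) : G) = col L (χ : G → ℂ) (cz r N) * L.base (cz r N) 1 := by
  classical
  have hs : (1 : G) ∈ regAt 2 ((cz r N : P) : G) := mem_regAt.2 ⟨Commute.one_right _, by simp⟩
  have hk := orderOf_top hM hmax (cz r N)
  conv_lhs => rw [← mul_one ((cz r N : P) : G), eq_sum_th hM (χ : G → ℂ)]
  rw [Finset.sum_eq_single_of_mem _ (eps_mem_BI hM hmax (cz r N))]
  · exact L.th_eq hM hmax (irr_isClassFunction χ) (good_self (mem_centralizer_cz h))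
      (s := 1) hs
  intro ε hε hne
  obtain ⟨g, hg, rfl⟩ := mem_BI.1 hε
  refine th_eq_zero hM hmax.1.2.1 hχ hk hg (fun hp => hne ?_) hs
  obtain ⟨w, x, hw, hx⟩ := (witness_iff hM hmax hk hg).2 hp
  have hw1 : w ≠ 1 := fun e1 => h.z_facts.1 (Subtype.ext (by
    have : x * ((cz r N : P) : G) * x⁻¹ = 1 := by rw [← hw, e1]; rfl
    simpa using this))
  have hw2 : w * w = 1 := Subtype.ext (by
    rw [Subgroup.coe_mul, hw, show ∀ t : G, x * t * x⁻¹ * (x * t * x⁻¹) = x * (t * t) * x⁻¹ from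
      fun t => by group, show ((cz r N : P) : G) * (cz r N : P) = 1 from
      congrArg Subtype.val h.z_facts.2]
    simp)
  obtain ⟨y, hy, hyε⟩ := hf w hw1 hw2
  have hyx : y * x ∈ CU ((cz r N : P) : G) := by
    refine mem_CU_of_commute ?_
    have e1 : (y * x) * ((cz r N : P) : G) * (y * x)⁻¹ = ((cz r N : P) : G) := by
      rw [show (y * x) * ((cz r N : P) : G) * (y * x)⁻¹ =
        y * (x * ((cz r N : P) : G) * x⁻¹) * y⁻¹ by group, ← hw, ← hy]
    exact (mul_inv_eq_iff_eq_mul.1 e1).symm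
  have h3 : cjE (y * x) (elF (CU ((cz r N : P) : G)) g) = eps 2 M e (cz r N) := by
    rw [← cjE_cjE, hx, hyε]
  rw [← cjE_one (elF _ g), ← inv_mul_cancel (y * x), ← cjE_cjE, h3]
  exact cjE_eq_self (invBy_BI (eps_mem_BI hM hmax _)) (Subgroup.inv_mem _ hyx)

omit hmax in
theorem base_cz_one_ne_zero : L.base (cz r N) 1 ≠ 0 := by
  rw [base_cz_one h L hM]
  exact apply_zc_ne_zero h L _

omit hmax h [Fintype (Cfsg.IrrCharacter G)] in
/-- Class functions of the centraliser agreeing on the section at `v` have the same parts. -/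
theorem th_congr {v : P} {f f' : CU ((cz r N : P) : G) → ℂ}
    (hf₁ : Cfsg.IsClassFunction _ f) (hf₂ : Cfsg.IsClassFunction _ f')
    (he : ∀ c : CU ((cz r N : P) : G), c ∈ regAt 2 ((L.up v : top' P ((cz r N : P) : G)) :
      CU ((cz r N : P) : G)) → f ((L.up v : top' P ((cz r N : P) : G)) * c) =
        f' ((L.up v : top' P ((cz r N : P) : G)) * c))
    {s : CU ((cz r N : P) : G)}
    (hs : s ∈ regAt 2 ((L.up v : top' P ((cz r N : P) : G)) : CU ((cz r N : P) : G))) :
    th f (L.up v : CU ((cz r N : P) : G)) (eps 2 M L.a (L.up v)) s =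
      th f' (L.up v : CU ((cz r N : P) : G)) (eps 2 M L.a (L.up v)) s := by
  obtain ⟨g, hg, he'⟩ := mem_BI.1 (eps_mem_BI hM L.max (L.up v))
  obtain ⟨h1, h2⟩ := mem_regAt.1 hs
  set u := ((L.up v : top' P ((cz r N : P) : G)) : CU ((cz r N : P) : G))
  have hsC : s ∈ CU u := mem_CU_of_commute h1
  rw [← he', show s = ((⟨s, hsC⟩ : CU u) : CU ((cz r N : P) : G)) from rfl, Star.th_eq hf₁,
    Star.th_eq hf₂]
  refine blockPart_congr_reg hM hg (fun c hc => ?_) (by rwa [Subgroup.orderOf_mk])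
  exact he c (mem_regAt.2 ⟨commute_of_mem_CU c.2, by rwa [Subgroup.orderOf_coe]⟩)

open scoped Classical in
include hf in
/-- The identity between the columns at two elements of the rotation group. -/
theorem exotic_identity {y : P} (hy : y ∈ Subgroup.zpowers r) (hy1 : y ≠ 1)
    (hyl : ∀ ζ : Cfsg.IrrCharacter P, (ζ : P → ℂ) 1 = 1 → (ζ : P → ℂ) y = 1) :
    ∑ χ ∈ Finset.univ.filter (fun χ => χ ∈ B),
        col L (χ : G → ℂ) (cz r N) ^ 2 / (χ : G → ℂ) 1 * col L (χ : G → ℂ) y =
      ∑ χ ∈ Finset.univ.filter (fun χ => χ ∈ B),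
        col L (χ : G → ℂ) (cz r N) ^ 2 / (χ : G → ℂ) 1 * col L (χ : G → ℂ) (cz r N) := by
  obtain ⟨K, hK⟩ : ∃ K : Set G, ∀ g, g ∈ K ↔ IsConj ((cz r N : P) : G) g :=
    ⟨{g | IsConj ((cz r N : P) : G) g}, fun g => Iff.rfl⟩
  have hzz : ((cz r N : P) : G) * ((cz r N : P) : G) = 1 := congrArg Subtype.val h.z_facts.2
  have hz1 : ((cz r N : P) : G) ≠ 1 := fun e1 => h.z_facts.1 (Subtype.ext e1)
  have hKsq : ∀ a ∈ K, a * a = 1 ∧ a ≠ 1 := by
    intro a ha
    obtain ⟨x, rfl⟩ := isConj_iff.1 ((hK _).1 ha)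
    refine ⟨?_, fun e1 => hz1 (by simpa using e1)⟩
    rw [show x * ((cz r N : P) : G) * x⁻¹ * (x * ((cz r N : P) : G) * x⁻¹) = x * (((cz r N : P) : G) * ((cz r N : P) : G)) * x⁻¹ by group, hzz]; group
  have hKinv : ∀ a ∈ K, a⁻¹ = a := fun a ha => inv_eq_of_mul_eq_one_right (hKsq a ha).1
  have hKcl : ∀ a x : G, a ∈ K → x * a * x⁻¹ ∈ K := fun a x ha =>
    (hK _).2 (IsConj.trans ((hK _).1 ha) (isConj_iff.2 ⟨x, rfl⟩))
  set S : Set (CU ((cz r N : P) : G)) := {a | (a : G) ∈ K ∧ a ≠ zc L} with hS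
  have hSinv : ∀ a ∈ S, a⁻¹ = a := fun a ha => Subtype.ext (hKinv _ ha.1)
  have hScl : ∀ a x : CU ((cz r N : P) : G), a ∈ S → x * a * x⁻¹ ∈ S := fun a x ha =>
    ⟨hKcl _ _ ha.1, fun e1 => ha.2 (by
      rw [show a = x⁻¹ * (x * a * x⁻¹) * x by group, e1, mul_assoc, (zc_commute L x).eq,
        inv_mul_cancel_left])⟩
  set F := pairNum K with hF
  set F' := pairNum S with hF'
  have hFc := isClassFunction_pairNum hKinv hKcl
  have hF'c := isClassFunction_pairNum hSinv hScl
  haveI := Fintype.ofFinite (Cfsg.IrrCharacter (CU ((cz r N : P) : G)))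
  -- the coordinate of `F'` does not depend on the element
  have hlin : ∀ v : P, (∀ ζ : Cfsg.IrrCharacter P, (ζ : P → ℂ) 1 = 1 → (ζ : P → ℂ) v = 1) →
      L.coord F' v = ∑ ζ : Cfsg.IrrCharacter (top' P ((cz r N : P) : G)),
        Cfsg.classInner F' (((L.Φ ζ : gAt 2 M e ((cz r N : P) : G)) : Cfsg.IrrCharacter (CU ((cz r N : P) : G))) :
          CU ((cz r N : P) : G) → ℂ) := by
    intro v hv
    refine Finset.sum_congr rfl fun ζ _ => ?_
    by_cases h1 : (ζ : top' P ((cz r N : P) : G) → ℂ) 1 = 1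
    · have hPC : P ≤ CU ((cz r N : P) : G) := top_le (cz r N) L.cen
      set φ : P ≃* top' P ((cz r N : P) : G) := (Subgroup.subgroupOfEquivOfLe hPC).symm
      have hφ : φ v = L.up v := rfl
      have := hv ⟨(ζ : top' P ((cz r N : P) : G) → ℂ) ∘ φ, (isIrrCharacter_comp_mulEquiv φ).2 ζ.2⟩
        (by show (ζ : top' P ((cz r N : P) : G) → ℂ) (φ 1) = 1; rw [map_one, h1])
      rw [← hφ, show (ζ : top' P ((cz r N : P) : G) → ℂ) (φ v) = 1 from this, mul_one]
    · suffices hz : Cfsg.classInner F' (((L.Φ ζ : gAt 2 M e ((cz r N : P) : G)) : Cfsg.IrrCharacter (CU ((cz r N : P) : G))) :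
          CU ((cz r N : P) : G) → ℂ) = 0 by rw [hz, zero_mul]
      rw [hF', classInner_pairNum hSinv hScl, Finset.sum_eq_zero, zero_pow two_ne_zero, zero_div]
      intro a _
      split_ifs with ha
      · exact phi_vanish h L hM h1 (Subtype.ext (hKsq _ ha.1).1)
          (fun e1 => (hKsq _ ha.1).2 (congrArg Subtype.val e1)) ha.2
      · rfl
  -- `F` and `F'` agree on the sections at the two elements
  have hagree : ∀ v : P, v ∈ Subgroup.zpowers r → v ≠ 1 → ∀ c : CU ((cz r N : P) : G),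
      c ∈ regAt 2 ((L.up v : top' P ((cz r N : P) : G)) : CU ((cz r N : P) : G)) →
      F (((L.up v : top' P ((cz r N : P) : G)) : CU ((cz r N : P) : G)) * c : CU ((cz r N : P) : G)) = F' ((L.up v : top' P ((cz r N : P) : G)) * c) := by
    intro v hv hv1 c hc
    obtain ⟨hc1, hc2⟩ := mem_regAt.1 hc
    have hvc : Commute (v : G) (c : G) := hc1.map (CU ((cz r N : P) : G)).subtype
    have hcG : ¬ 2 ∣ orderOf (c : G) := by rwa [Subgroup.orderOf_coe]
    obtain ⟨k, hk⟩ := orderOf_top hM hmax v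
    set g : CU ((cz r N : P) : G) := ((L.up v : top' P ((cz r N : P) : G)) : CU ((cz r N : P) : G)) * c with hg
    have hgG : (g : G) = (v : G) * (c : G) := rfl
    have hgsq : g * g = 1 → g = zc L := by
      intro h2
      have h2' : (v : G) * c * ((v : G) * c) = 1 := by
        rw [← hgG]; exact congrArg Subtype.val h2
      rw [hvc.symm.mul_mul_mul_comm] at h2'
      have hc' : (c : G) * c = 1 := by
        have e1 : (c : G) * c = ((v : G) * v)⁻¹ := eq_inv_of_mul_eq_one_right h2'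
        have d1 : orderOf ((c : G) * c) ∣ orderOf (c : G) := by
          rw [← pow_two]; exact orderOf_pow_dvd 2
        have d2 : orderOf ((c : G) * c) ∣ 2 ^ k := by
          rw [e1, orderOf_inv, ← hk, ← pow_two]; exact orderOf_pow_dvd 2
        exact orderOf_eq_one_iff.1 (Nat.eq_one_of_dvd_coprimes
          (((Nat.prime_two.coprime_iff_not_dvd).2 hcG).pow_left k) d2 d1)
      have hc0 : (c : G) = 1 := by
        by_contra hne
        exact hcG (by rw [orderOf_eq_prime (by rw [pow_two]; exact hc') hne])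
      rw [hc', mul_one] at h2'
      rcases h.sq_eq_one hv (Subtype.ext h2') with e1 | e1
      · exact absurd e1 hv1
      · refine Subtype.ext ?_
        rw [hgG, hc0, mul_one, e1]
        rfl
    have key : ∀ a : G, a ∈ K → a * (g : G) ∈ K →
        a ∈ CU ((cz r N : P) : G) ∧ a ≠ ((cz r N : P) : G) ∧ a * (g : G) ≠ ((cz r N : P) : G) := by
      intro a ha hag
      have e1 := conj_ppart hk hcG hvc (a := a) (by
        rw [← hgG, hKinv a ha]
        exact eq_inv_of_mul_eq_one_left (by rw [mul_assoc (a * (g : G))]; exact (hKsq _ hag).1))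
      have haC : a ∈ CU ((cz r N : P) : G) := by
        obtain ⟨j, hj⟩ := Subgroup.mem_zpowers_iff.1 (h.z_mem_zpowers hv hv1)
        have e2 : a * ((cz r N : P) : G) * a⁻¹ = ((cz r N : P) : G)⁻¹ := by
          rw [cz, ← hj, Subgroup.coe_zpow, ← conj_zpow, e1, inv_zpow]
        rw [inv_eq_of_mul_eq_one_right hzz] at e2
        exact mem_CU_of_commute (mul_inv_eq_iff_eq_mul.1 e2).symm
      refine ⟨haC, fun e2 => ?_, fun e2 => ?_⟩
      · have hg2 : g * g = 1 := Subtype.ext (by
          have h5 := (hKsq _ hag).1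
          rw [e2, (commute_of_mem_CU g.2).symm.mul_mul_mul_comm, hzz, one_mul] at h5
          exact h5)
        have e3 : (g : G) = ((cz r N : P) : G) := congrArg Subtype.val (hgsq hg2)
        exact (hKsq _ hag).2 (by rw [e2, e3, hzz])
      · have e3 : a = ((cz r N : P) : G) * (g : G)⁻¹ := eq_mul_inv_of_mul_eq e2
        have hg2 : g * g = 1 := Subtype.ext (by
          have h5 := (hKsq _ ha).1
          rw [e3, ((commute_of_mem_CU g.2).inv_right).symm.mul_mul_mul_comm, hzz, one_mul, ← mul_inv_rev,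
            inv_eq_one] at h5
          exact h5)
        have e4 : (g : G) = ((cz r N : P) : G) := congrArg Subtype.val (hgsq hg2)
        exact (hKsq _ ha).2 (by rw [e3, e4, mul_inv_cancel])
    rw [hF, hF', pairNum, pairNum]
    refine (Finset.sum_subset (Finset.subset_univ (Finset.univ.map ⟨((↑) : CU ((cz r N : P) : G) → G),
      Subtype.val_injective⟩)) fun a _ ha => ?_).symm.trans ?_
    · refine if_neg fun h3 => ha ?_
      exact Finset.mem_map.2 ⟨⟨a, (key a h3.1 h3.2).1⟩, Finset.mem_univ _, rfl⟩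
    rw [Finset.sum_map]
    refine Finset.sum_congr rfl fun a _ => ?_
    by_cases h3 : (a : G) ∈ K ∧ (a : G) * (g : G) ∈ K
    · obtain ⟨-, k2, k3⟩ := key _ h3.1 h3.2
      have h4 : a ∈ S ∧ a * g ∈ S := ⟨⟨h3.1, fun e2 => k2 (congrArg Subtype.val e2)⟩,
        ⟨h3.2, fun e2 => k3 (congrArg Subtype.val e2)⟩⟩
      exact (if_pos h3).trans (if_pos h4).symm
    · have h4 : ¬ (a ∈ S ∧ a * g ∈ S) := fun h4 => h3 ⟨h4.1.1, h4.2.1⟩
      exact (if_neg h3).trans (if_neg h4).symm
  -- the two expansions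
  have hside : ∀ v : P, v ∈ Subgroup.zpowers r → v ≠ 1 →
      (∀ ζ : Cfsg.IrrCharacter P, (ζ : P → ℂ) 1 = 1 → (ζ : P → ℂ) v = 1) →
      ∑ χ ∈ Finset.univ.filter (fun χ => χ ∈ B),
          Cfsg.classInner F (χ : G → ℂ) * col L (χ : G → ℂ) v =
        ∑ ζ : Cfsg.IrrCharacter (top' P ((cz r N : P) : G)),
          Cfsg.classInner F' (((L.Φ ζ : gAt 2 M e ((cz r N : P) : G)) : Cfsg.IrrCharacter (CU ((cz r N : P) : G))) :
            CU ((cz r N : P) : G) → ℂ) := by
    intro v hv hv1 hvl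
    rw [← hlin v hvl]
    have hgd := good_rot h hv hv1
    have hcl := good_closed h hv hv1
    obtain ⟨s, hs, hne⟩ := base_ne_zero L hM hmax hgd hcl
    have hres : Cfsg.IsClassFunction (CU ((cz r N : P) : G)) fun c : CU ((cz r N : P) : G) => F c := fun c a => hFc c a
    have heq := th_congr hM L hres hF'c (hagree v hv hv1) hs
    rw [L.th_eq_coord hM hres v hs, L.th_eq_coord hM hF'c v hs] at heq
    rw [← mul_right_cancel₀ hne heq, Finset.sum_subset (Finset.subset_univ _) fun χ _ hχ => by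
      rw [col_outside hM hmax L hgd hcl fun h3 => hχ (Finset.mem_filter.2 ⟨Finset.mem_univ _, h3⟩),
        mul_zero]]
    simp only [col, Loc.coord, Finset.mul_sum]
    rw [Finset.sum_comm]
    refine Finset.sum_congr rfl fun ζ _ => ?_
    simp only [← mul_assoc, ← Finset.sum_mul]
    congr 1
    conv_rhs => rw [show (fun c : CU ((cz r N : P) : G) => F c) = ∑ χ : Cfsg.IrrCharacter G,
      Cfsg.classInner F (χ : G → ℂ) • (fun c : CU ((cz r N : P) : G) => (χ : G → ℂ) c) from by
        funext c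
        show pairNum K (c : G) = _
        rw [congrFun (classFun_eq_sum hFc) (c : G)]
        simp [Finset.sum_apply, hF]]
    rw [classInner_sum_left]
    exact Finset.sum_congr rfl fun χ _ => (classInner_smul_left _ _ _).symm
  have hA : ∀ χ ∈ Finset.univ.filter (fun χ => χ ∈ B), ∀ t : ℂ,
      Cfsg.classInner F (χ : G → ℂ) * t =
        ((∑ a : G, if a ∈ K then (1 : ℂ) else 0) * L.base (cz r N) 1) ^ 2 / (Nat.card G : ℂ) *
          (col L (χ : G → ℂ) (cz r N) ^ 2 / (χ : G → ℂ) 1 * t) := by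
    intro χ hχ t
    have e1 : (∑ a : G, if a ∈ K then (χ : G → ℂ) a else 0) =
        (∑ a : G, if a ∈ K then (1 : ℂ) else 0) *
          (col L (χ : G → ℂ) (cz r N) * L.base (cz r N) 1) := by
      rw [← value_cz hM hmax h L hf (Finset.mem_filter.1 hχ).2, Finset.sum_mul]
      refine Finset.sum_congr rfl fun a _ => ?_
      split_ifs with ha
      · obtain ⟨x, rfl⟩ := isConj_iff.1 ((hK _).1 ha)
        rw [one_mul, irr_isClassFunction χ]
      · rw [zero_mul]
    rw [hF, classInner_pairNum hKinv hKcl, e1]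
    ring
  have h1 := hside y hy hy1 hyl
  have h2 := hside (cz r N) (Subgroup.npow_mem_zpowers r _) h.z_facts.1
    (fun ζ hζ => h.linear_z hζ)
  have hboth := h1.trans h2.symm
  rw [Finset.sum_congr rfl fun χ hχ => hA χ hχ _, Finset.sum_congr rfl fun χ hχ => hA χ hχ _,
    ← Finset.mul_sum, ← Finset.mul_sum] at hboth
  refine mul_left_cancel₀ (div_ne_zero (pow_ne_zero _ (mul_ne_zero ?_
    (base_cz_one_ne_zero hM h L))) natCard_ne_zero) hboth
  rw [← Finset.sum_filter, Finset.sum_const, nsmul_one, Nat.cast_ne_zero]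
  exact Finset.card_ne_zero_of_mem (a := ((cz r N : P) : G)) (Finset.mem_filter.2 ⟨Finset.mem_univ _, (hK _).2 (IsConj.refl _)⟩)

end Cfsg.Agent.Blocks.Dihedral
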