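import Mathlib
import Cfsg.Agent.Lib.Blocks.Dihedral.Central
import Cfsg.Agent.Lib.Blocks.Star.Major

/-!
# The heights are the valuations of the column at the central involution
-/

set_option linter.style.haveILetI false
set_option linter.unusedSectionVars false

namespace Cfsg.Agent.Blocks.Dihedral

open Cfsg.Agent.Blocks Cfsg.Agent.Characters Cfsg.Agent.Blocks.Star
open Cfsg.Agent.Blocks.CentralStep
open Cfsg.Agent.BlockCharsA.RegularPart
open Cfsg.Agent.BlockCharsA Cfsg.Agent.BlockCharsA.BrauerPairs Cfsg.Agent.BlockCharsA.PairConj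
open MonoidAlgebra
open scoped ComplexConjugate

universe u

variable {G : Type u} [Group G] [Finite G] {M : Ideal Cfsg.AlgInt}
  {B : Set (Cfsg.IrrCharacter G)} {P : Subgroup G}
  {e : Set (Cfsg.IrrCharacter (Subgroup.centralizer (P : Set G)))} {r : P} {N : ℕ}
  (hM : Cfsg.IsPModular 2 M) (hmax : Cfsg.IsMaximalBrauerPair 2 M B P e) (h : IsDih P r N)
  [Fintype G] [Fintype (CU ((cz r N : P) : G))]
  [Fintype (Cfsg.IrrCharacter (top' P ((cz r N : P) : G)))]
  (L : Loc 2 M e (cz r N))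

include hM hmax h

/-- The height is read off the column at the central involution. -/
theorem height_eq (hint : ∀ χ : Cfsg.IrrCharacter G, χ ∈ B →
      ∃ g : ℤ, col L (χ : G → ℂ) (cz r N) = (g : ℂ))
    {χ : Cfsg.IrrCharacter G} (hχ : χ ∈ B) {g : ℤ}
    (hg : col L (χ : G → ℂ) (cz r N) = (g : ℂ)) :
    Cfsg.blockHeight 2 B (χ : G → ℂ) = g.natAbs.factorization 2 := by
  classical
  have hz := mem_centralizer_cz h
  have hk := orderOf_top hM hmax (cz r N)
  obtain ⟨hle, hgB, hge⟩ := gAt_spec hM hmax (cz r N)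
  have hpair : Cfsg.IsBrauerPairOf 2 M B (Subgroup.zpowers ((cz r N : P) : G)) (gAt 2 M e ((cz r N : P) : G)) :=
    (block_of_subpairLE hM hle).2 hmax.1
  have hd := blockDefect_of_central hM hmax hz hgB hle
  -- the common factor
  obtain ⟨l, hl, hlv⟩ := exists_sign h L L.χ₀
  set S0 := regSum 2 (L.χ₀ : CU ((cz r N : P) : G) → ℂ) (L.χ₀ : CU ((cz r N : P) : G) → ℂ)
  set A : ℂ := l * (S0 / (L.χ₀ : CU ((cz r N : P) : G) → ℂ) 1) with hA
  have hR : ∀ ψ : Cfsg.IrrCharacter G, regSum 2 (shiftCU (ψ : G → ℂ) ((cz r N : P) : G)) (L.χ₀ : CU ((cz r N : P) : G) → ℂ) =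
      col L (ψ : G → ℂ) (cz r N) * A * (L.χ₀ : CU ((cz r N : P) : G) → ℂ) 1 := by
    intro ψ
    have hS : col L (ψ : G → ℂ) (cz r N) * A * (L.χ₀ : CU ((cz r N : P) : G) → ℂ) 1 =
        col L (ψ : G → ℂ) (cz r N) * l * S0 := by
      rw [hA]
      field_simp [irr_one_ne_zero L.χ₀.2]
    rw [hS, regSum_shift_eq hM hgB (irr_isClassFunction ψ) L.mem₀, regSum_eq_sum]
    simp only [S0]
    rw [regSum_eq_sum, Finset.mul_sum]
    refine Finset.sum_congr rfl fun c _ => ?_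
    by_cases hc : 2 ∣ orderOf c
    · rw [if_neg (not_not.2 hc), if_neg (not_not.2 hc), mul_zero]
    rw [if_pos hc, if_pos hc]
    have hcG : (c : G) ∈ regAt 2 ((cz r N : P) : G) :=
      mem_regAt.2 ⟨commute_of_mem_CU c.2, by rwa [Subgroup.orderOf_coe]⟩
    rw [← hge, L.th_eq hM hmax (irr_isClassFunction ψ) (good_self hz) hcG,
      base_cz h L hM (mem_regAt.2 ⟨zc_commute L c, hc⟩), hlv, col]
    ring
  have hAr : Cfsg.MemLocalRing M A := by
    refine ring_mul hM (ring_of_isIntegral hM ?_) ?_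
    · exact IsIntegral.of_pow (n := 2) two_pos (by rw [pow_two, hl]; exact isIntegral_one)
    · have e : omega (L.χ₀ : CU ((cz r N : P) : G) → ℂ) (regEl 2 (L.χ₀ : CU ((cz r N : P) : G) → ℂ)) = S0 / (L.χ₀ : CU ((cz r N : P) : G) → ℂ) 1 := by
        rw [omega, evalChar_eq_sum]
        congr 1
        simp only [S0]
        rw [regSum_eq_sum]
        refine Fintype.sum_equiv (Equiv.refl _) _ _ fun c => ?_
        rw [coeff_regEl, Equiv.refl_apply]
        by_cases hc : 2 ∣ orderOf c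
        · rw [if_pos hc, if_neg (not_not.2 hc), zero_mul]
        · rw [if_neg hc, if_pos hc, char_inv (irr_isCharacter L.χ₀), mul_comm]
      rw [← e]
      exact omega_ring hM L.χ₀ (central_regEl (irr_isClassFunction L.χ₀))
        (intEl_regEl hM (irr_isCharacter L.χ₀))
  -- a character of height zero
  obtain ⟨χ₁, hχ₁, h10⟩ := exists_height_zero hM hmax.1.2.1
  obtain ⟨g₁, hg₁⟩ := hint χ₁ hχ₁
  obtain ⟨hu₁, hu₂⟩ := pairing_unit hM hk hpair hχ₁ h10 L.mem₀
  rw [hR, hg₁, mul_div_cancel_right₀ _ (irr_one_ne_zero L.χ₀.2)] at hu₁ hu₂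
  have hAu : ¬ Cfsg.MemLocalIdeal M A := fun h' =>
    hu₂ (ideal_mul_left hM (ring_intCast hM g₁) h')
  -- the central element
  set K := Subgroup.centralizer ({((cz r N : P) : G)} : Set G)
  have hK : K = CU ((cz r N : P) : G) := SetLike.ext fun x => mem_centralizer_zpowers.symm
  set σ := MulEquiv.subgroupCongr hK
  set φ : K → ℂ := fun c => (L.χ₀ : CU ((cz r N : P) : G) → ℂ) (σ c) with hφdef
  have hφc : Cfsg.IsClassFunction K φ := fun c a => by
    simp only [hφdef, map_mul, map_inv]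
    exact irr_isClassFunction L.χ₀ (σ c) (σ a)
  have hp := hM.1
  have hzc := MajorSubsection.central_secEl hp hk hφc
  have hzi := MajorSubsection.intEl_secEl hM (p := 2) (y := ((cz r N : P) : G))
    (fun c => char_value_isIntegral (irr_isCharacter L.χ₀) (σ c) : ∀ c, IsIntegral ℤ (φ c))
  have key : ∀ ψ : Cfsg.IrrCharacter G, omega (ψ : G → ℂ) (MajorSubsection.secEl 2 ((cz r N : P) : G) φ) =
      (K.index : ℂ) * regSum 2 (shiftCU (ψ : G → ℂ) ((cz r N : P) : G)) (L.χ₀ : CU ((cz r N : P) : G) → ℂ) / (ψ : G → ℂ) 1 := by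
    intro ψ
    haveI := Fintype.ofFinite K
    rw [omega, MajorSubsection.evalChar_secEl hp hk hφc (irr_isClassFunction ψ)]
    congr 2
    rw [regSum_eq_sum, regSum_eq_sum]
    refine Fintype.sum_equiv σ.toEquiv _ _ fun c => ?_
    rw [MulEquiv.toEquiv_eq_coe, MulEquiv.coe_toEquiv, σ.orderOf_eq c]
    rfl
  have hξne : Cfsg.charDegree (L.χ₀ : CU ((cz r N : P) : G) → ℂ) ≠ 0 := fun e' => irr_one_ne_zero L.χ₀.2 (by
    rw [← charDegree_cast L.χ₀, e', Nat.cast_zero])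
  have hdeg : ∀ ψ : Cfsg.IrrCharacter G, Cfsg.charDegree (ψ : G → ℂ) ≠ 0 := fun ψ e' =>
    irr_one_ne_zero ψ.2 (by rw [← charDegree_cast ψ, e', Nat.cast_zero])
  set n₀ := K.index * Cfsg.charDegree (L.χ₀ : CU ((cz r N : P) : G) → ℂ) with hn₀
  have hn₀ne : n₀ ≠ 0 := mul_ne_zero K.index_ne_zero_of_finite hξne
  have hW : ∀ (ψ : Cfsg.IrrCharacter G) (x : ℤ), col L (ψ : G → ℂ) (cz r N) = (x : ℂ) →
      ∃ s : ℤ, (s = 1 ∨ s = -1) ∧ omega (ψ : G → ℂ) (MajorSubsection.secEl 2 ((cz r N : P) : G) φ) =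
        ((n₀ * x.natAbs : ℕ) : ℂ) / (Cfsg.charDegree (ψ : G → ℂ) : ℂ) * ((s : ℂ) * A) := by
    intro ψ x hx
    have hx' : ∃ s : ℤ, (s = 1 ∨ s = -1) ∧ x = s * (x.natAbs : ℤ) := by
      rcases Int.natAbs_eq x with e' | e'
      · exact ⟨1, Or.inl rfl, by rwa [one_mul]⟩
      · exact ⟨-1, Or.inr rfl, by rwa [neg_one_mul]⟩
    obtain ⟨s, hs, hs'⟩ := hx'
    refine ⟨s, hs, ?_⟩
    have hs'' : (x : ℂ) = (s : ℂ) * (x.natAbs : ℂ) := by
      conv_lhs => rw [hs']
      rw [Int.cast_mul, Int.cast_natCast]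
    rw [key, hR, hx, ← charDegree_cast ψ, ← charDegree_cast L.χ₀, hn₀, hs'']
    push_cast
    ring
  have hidx := factorization_index_add K 2
  have hdξ := degree_factorization_eq hM hgB L.mem₀
  rw [L.h₀, Nat.add_zero, hd] at hdξ
  have hn₀v : n₀.factorization 2 + Cfsg.blockDefect 2 B = (Nat.card G).factorization 2 := by
    rw [hn₀, Nat.factorization_mul K.index_ne_zero_of_finite hξne, Finsupp.add_apply]
    have hKC : Nat.card K = Nat.card (CU ((cz r N : P) : G)) := Nat.card_congr σ.toEquiv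
    rw [hKC] at hidx
    omega
  have hAs : ∀ s : ℤ, s = 1 ∨ s = -1 →
      Cfsg.MemLocalRing M ((s : ℂ) * A) ∧ ¬ Cfsg.MemLocalIdeal M ((s : ℂ) * A) := by
    rintro s (rfl | rfl)
    · simpa using And.intro hAr hAu
    · refine ⟨ring_mul hM (ring_intCast hM _) hAr, fun h' => hAu ?_⟩
      simpa using ideal_neg hM h'
  -- the height-zero member gives a unit
  have hv₁ : g₁.natAbs.factorization 2 = 0 := Nat.factorization_eq_zero_of_not_dvd fun hd2 => by
    have h2 : ((2 : ℕ) : ℤ) ∣ g₁ := Int.natCast_dvd.2 hd2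
    exact hu₂ (ideal_mul_right hM ((ideal_intCast_iff hM g₁).2 h2) hAr)
  have hg₁0 : g₁ ≠ 0 := fun e' => hu₂ (by rw [e', Int.cast_zero, zero_mul]; exact ideal_zero hM)
  have hunit : ¬ Cfsg.MemLocalIdeal M (omega (χ₁ : G → ℂ) (MajorSubsection.secEl 2 ((cz r N : P) : G) φ)) := by
    obtain ⟨s, hs, e'⟩ := hW χ₁ g₁ hg₁
    rw [e']
    refine not_ideal_mul_div hM (mul_ne_zero hn₀ne (Int.natAbs_ne_zero.2 hg₁0)) (hdeg χ₁) ?_
      (hAs s hs).1 (hAs s hs).2
    have h1 := degree_factorization_eq hM hmax.1.2.1 hχ₁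
    rw [h10, Nat.add_zero] at h1
    rw [Nat.factorization_mul hn₀ne (Int.natAbs_ne_zero.2 hg₁0), Finsupp.add_apply, hv₁]
    omega
  have hu : ¬ Cfsg.MemLocalIdeal M (omega (χ : G → ℂ) (MajorSubsection.secEl 2 ((cz r N : P) : G) φ)) := fun h' =>
    hunit ((ideal_iff_of_cong hM (omega_cong_of_mem hM hmax.1.2.1 hχ hχ₁ hzc hzi)).1 h')
  obtain ⟨s, hs, e'⟩ := hW χ g hg
  rw [e'] at hu
  have hg0 : g ≠ 0 := fun e0 => hu (by simp [e0, ideal_zero hM])
  have hn : n₀ * g.natAbs ≠ 0 := mul_ne_zero hn₀ne (Int.natAbs_ne_zero.2 hg0)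
  have hring := omega_ring hM χ hzc hzi
  rw [e'] at hring
  have h1 := degree_factorization_eq hM hmax.1.2.1 hχ
  have h2 : (n₀ * g.natAbs).factorization 2 = n₀.factorization 2 + g.natAbs.factorization 2 := by
    rw [Nat.factorization_mul hn₀ne (Int.natAbs_ne_zero.2 hg0), Finsupp.add_apply]
  rcases Nat.lt_trichotomy ((n₀ * g.natAbs).factorization 2)
    ((Cfsg.charDegree (χ : G → ℂ)).factorization 2) with h3 | h3 | h3
  · refine absurd ?_ (hAs s hs).2
    have h4 := ideal_mul_left hM hring (ideal_natCast_div hM hn h3)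
    have ha : ((n₀ * g.natAbs : ℕ) : ℂ) ≠ 0 := Nat.cast_ne_zero.2 hn
    have hb : (Cfsg.charDegree (χ : G → ℂ) : ℂ) ≠ 0 := Nat.cast_ne_zero.2 (hdeg χ)
    convert h4 using 1
    field_simp
  · omega
  · exact absurd (ideal_mul_right hM (ideal_natCast_div hM (hdeg χ) h3) (hAs s hs).1) hu

end Cfsg.Agent.Blocks.Dihedral
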