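import Mathlib
import Cfsg.Agent.Lib.Blocks.Dihedral.Coords
import Cfsg.Agent.Lib.Blocks.Dihedral.Exotic
import Cfsg.Agent.Lib.Blocks.Dihedral.Heights

/-!
# The invariants of a block with dihedral defect group
-/

set_option linter.style.haveILetI false
set_option linter.unusedSectionVars false

namespace Cfsg.Agent.Blocks.Dihedral

open Cfsg.Agent.Blocks Cfsg.Agent.Characters Cfsg.Agent.Blocks.Star
open Cfsg.Agent.Blocks.CentralStep
open Cfsg.Agent.BlockCharsA.BrauerPairs Cfsg.Agent.BlockCharsA.PairConj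

universe u

variable {G : Type u} [Group G] [Finite G] {M : Ideal Cfsg.AlgInt}
  {B : Set (Cfsg.IrrCharacter G)} {P : Subgroup G}
  {e : Set (Cfsg.IrrCharacter (Subgroup.centralizer (P : Set G)))} {r : P} {N : ℕ}
  (hM : Cfsg.IsPModular 2 M) (hmax : Cfsg.IsMaximalBrauerPair 2 M B P e) (h : IsDih P r N)

include hM hmax h

/-- The rank is at most the number of characters less the number of classes of rotations. -/
theorem rank_add_half_le : Cfsg.blockRank 2 B + N / 2 ≤ Nat.card B := by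
  haveI := Fintype.ofFinite G
  haveI := Fintype.ofFinite (Cfsg.IrrCharacter G)
  haveI := Fintype.ofFinite (CU ((cz r N : P) : G))
  haveI := Fintype.ofFinite (Cfsg.IrrCharacter (top' P ((cz r N : P) : G)))
  have h4 := h.four_le
  obtain ⟨L⟩ := exists_loc hM hmax (mem_centralizer_cz h) (isNilpotent_central hM hmax h)
  have hp1 : ∀ i : Fin (N / 2), r ^ ((i : ℕ) + 1) ≠ 1 := fun i =>
    pow_ne_one' h (by omega) (by omega)
  have := rank_add_le hM hmax (fun i : Fin (N / 2) => r ^ ((i : ℕ) + 1)) hp1 fun i j hij hf => by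
    have hinj : ∀ {a b : ℕ}, a < N → b < N → r ^ a = r ^ b → a = b := fun ha hb e =>
      pow_injOn_Iio_orderOf (h.ord.symm ▸ ha) (h.ord.symm ▸ hb) e
    rcases fused_rot hM hmax h L (Subgroup.npow_mem_zpowers r _) (hp1 i)
      (Subgroup.npow_mem_zpowers r _) hf with e1 | e1
    · have := hinj (by omega) (by omega) e1
      exact hij (Fin.ext (by omega))
    · rw [← pow_sub_inv h (show (i : ℕ) + 1 ≤ N by omega)] at e1
      have := hinj (by omega) (by omega) e1
      exact hij (Fin.ext (by omega))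
  simpa using this

/-- The invariants of a block with dihedral defect group of order `2 N`. -/
theorem invariants : Nat.card B = N / 2 + 3 ∧ 1 ≤ Cfsg.blockRank 2 B ∧ Cfsg.blockRank 2 B ≤ 3 ∧
    Nat.card {χ : Cfsg.IrrCharacter G // χ ∈ B ∧ Cfsg.blockHeight 2 B (χ : G → ℂ) = 0} = 4 ∧
    ∀ χ ∈ B, Cfsg.blockHeight 2 B (χ : G → ℂ) ≤ 1 := by
  classical
  haveI := Fintype.ofFinite G
  haveI := Fintype.ofFinite (Cfsg.IrrCharacter G)
  haveI := Fintype.ofFinite (CU ((cz r N : P) : G))
  haveI := Fintype.ofFinite (Cfsg.IrrCharacter (top' P ((cz r N : P) : G)))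
  haveI := Fintype.ofFinite B
  have h4 := h.four_le
  obtain ⟨L⟩ := exists_loc hM hmax (mem_centralizer_cz h) (isNilpotent_central hM hmax h)
  obtain ⟨c, hcc, hss, hcs, huz, hr2, hdeg⟩ := exists_coords hM hmax h L
  set ci : Fin (N / 2 - 1) → B → ℤ := fun i t => c t ((i : ℕ) + 1) with hci
  set cs : B → ℤ := fun t => c t (N / 2) with hcsdef
  have hne : ∀ t, uz ci cs t ≠ 0 := fun t h0 => col_cz_ne_zero hM hmax h L t.2 (by
    rw [huz t]
    show -((uz ci cs t : ℤ) : ℂ) = 0
    rw [h0, Int.cast_zero, neg_zero])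
  have hm : Odd (N / 2 - 1) := by
    obtain ⟨j, hj, hN⟩ := h.pow
    obtain ⟨i, rfl⟩ : ∃ i, j = i + 2 := ⟨j - 2, by omega⟩
    exact ⟨2 ^ i - 1, by have := Nat.one_le_two_pow (n := i); rw [hN, pow_add]; omega⟩
  have hE : ∀ i₁ : Fin (N / 2 - 1), (i₁ : ℕ) = 1 → N / 2 - 1 = 3 → Fintype.card B ≤ 5 →
      DegOk ci cs i₁ := by
    intro i₁ hi₁ h3 hk
    have h8 : N = 8 := by have := h.two_dvd; omega
    have hd := fun t : B => (char_one_nat (irr_isCharacter (t : Cfsg.IrrCharacter G)))
    choose d hd using hd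
    have hd0 : ∀ t, (d t : ℝ) ≠ 0 := fun t e' => irr_one_ne_zero (t : Cfsg.IrrCharacter G).2 (by
      rw [hd t, Nat.cast_eq_zero.1 e', Nat.cast_zero])
    have hperp : ∀ k, ∑ t : B, (c t k : ℝ) * (d t : ℝ) = 0 := fun k => by
      have := hdeg k
      simp only [hd] at this
      exact_mod_cast this
    refine ⟨fun t => d t, hd0, fun i => hperp _, hperp _, ?_⟩
    have hy1 : r ^ 2 ≠ 1 := pow_ne_one' h (by omega) (by omega)
    have hid := exotic_identity hM hmax h L
      (fun w hw1 hw => fused_cz hM hmax h h8 (by rw [Nat.card_eq_fintype_card]; exact hk) hw1 hw)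
      (Subgroup.npow_mem_zpowers r 2) hy1
      (fun ζ hζ => by rw [pow_two]; exact h.linear_sq hζ (Subgroup.mem_zpowers r))
    rw [Finset.sum_subtype (p := fun χ => χ ∈ B) _ (fun χ => by simp)
        (fun χ : Cfsg.IrrCharacter G => col L (χ : G → ℂ) (cz r N) ^ 2 / (χ : G → ℂ) 1 *
          col L (χ : G → ℂ) (r ^ 2)),
      Finset.sum_subtype (p := fun χ => χ ∈ B) _ (fun χ => by simp)
        (fun χ : Cfsg.IrrCharacter G => col L (χ : G → ℂ) (cz r N) ^ 2 / (χ : G → ℂ) 1 *
          col L (χ : G → ℂ) (cz r N))] at hid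
    simp only [fun t => hr2 h8 t, huz, hd] at hid
    apply Complex.ofReal_injective
    push_cast
    simp only [hci, hcsdef, hi₁, show N / 2 = 4 by omega] at hid ⊢
    rw [← Finset.sum_neg_distrib]
    refine ((Finset.sum_congr rfl fun t _ => ?_).trans hid).trans (Finset.sum_congr rfl fun t _ => ?_)
    · push_cast; ring
    · push_cast; ring
  obtain ⟨hcard, hodd, hshape⟩ := shape (c := ci) (cs := cs) hm
    (fun i j => by
      rw [hcc ((i : ℕ) + 1) ((j : ℕ) + 1) (by omega) (by omega) (by omega) (by omega)]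
      simp only [Fin.ext_iff, add_left_inj])
    hss (fun i => hcs _ (by omega) (by omega)) hne hE
  have hk : Nat.card B = N / 2 + 3 := by
    rw [Nat.card_eq_fintype_card, hcard]; omega
  have hh : ∀ t : B, Cfsg.blockHeight 2 B ((t : Cfsg.IrrCharacter G) : G → ℂ) =
      (uz ci cs t).natAbs.factorization 2 := fun t => by
    rw [height_eq hM hmax h L (fun χ hχ => ⟨-uz ci cs ⟨χ, hχ⟩, by
      rw [huz ⟨χ, hχ⟩, Int.cast_neg]⟩) t.2 (g := -uz ci cs t) (by rw [huz t, Int.cast_neg]),
      Int.natAbs_neg]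
  have h0iff : ∀ t : B, Cfsg.blockHeight 2 B ((t : Cfsg.IrrCharacter G) : G → ℂ) = 0 ↔
      Odd (uz ci cs t) := fun t => by
    rw [hh, Nat.factorization_eq_zero_iff, ← Int.natAbs_odd, Nat.odd_iff, Nat.dvd_iff_mod_eq_zero]
    have := hne t
    simp only [Nat.prime_two, not_true, false_or, Int.natAbs_eq_zero, this, or_false]
    omega
  refine ⟨hk, one_le_blockRank hM hmax.1.2.1, ?_, ?_, fun χ hχ => ?_⟩
  · have := rank_add_half_le hM hmax h
    omega
  · rw [← hodd, ← Fintype.card_subtype, ← Nat.card_eq_fintype_card]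
    exact Nat.card_congr ((Equiv.subtypeSubtypeEquivSubtypeInter (· ∈ B)
      (fun χ => Cfsg.blockHeight 2 B (χ : G → ℂ) = 0)).symm.trans (Equiv.subtypeEquivRight h0iff))
  · rw [show (χ : G → ℂ) = (((⟨χ, hχ⟩ : B) : Cfsg.IrrCharacter G) : G → ℂ) from rfl, hh]
    rcases hshape ⟨χ, hχ⟩ with ho | h2 | h2
    · rw [Nat.factorization_eq_zero_of_not_dvd]
      · exact zero_le_one
      · intro hd
        have := Int.natAbs_odd.2 ho
        exact Nat.not_even_iff_odd.2 this (even_iff_two_dvd.2 hd)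
    all_goals
      rw [h2]
      simp [Nat.prime_two.factorization_self]

end Cfsg.Agent.Blocks.Dihedral
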